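import Cfsg.Agent.ConwayType.MathieuLocal.Frame

/-!
The eleven involutions are independent, and they are their own centralizer.
-/

set_option autoImplicit false
set_option maxRecDepth 100000
set_option maxHeartbeats 1000000
set_option linter.unusedSectionVars false
set_option linter.style.haveILetI false

namespace Cfsg.Lib.ConwayType

open Subgroup Cfsg.Lib.ConwayType.Code

universe u

variable {G : Type u} [Group G] [Finite G] {z : G}

/-- Induction over the bits below a power of two. -/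
theorem span_bits {P : ℕ → Prop} (h0 : P 0) (add : ∀ a b, P a → P b → P (a ^^^ b)) :
    ∀ n, (∀ i < n, P (2 ^ i)) → ∀ k < 2 ^ n, P k
  | 0, _, k, hk => by
    obtain rfl : k = 0 := by omega
    exact h0
  | n + 1, hb, k, hk => by
    have ih := span_bits h0 add n fun i hi => hb i (Nat.lt_succ_of_lt hi)
    by_cases h : k < 2 ^ n
    · exact ih k h
    · have e : k = 2 ^ n ^^^ (k - 2 ^ n) := by
        refine Nat.eq_of_testBit_eq fun i => ?_
        have hk' : k = 2 ^ n + (k - 2 ^ n) := by omega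
        have hlt : k - 2 ^ n < 2 ^ n := by rw [pow_succ] at hk; omega
        rw [Nat.testBit_xor]
        conv_lhs => rw [hk']
        rw [Nat.testBit_two_pow]
        rcases lt_trichotomy i n with h' | h' | h'
        · rw [Nat.testBit_two_pow_add_gt h', decide_eq_false (Nat.ne_of_gt h'), Bool.false_xor]
        · subst h'
          rw [Nat.testBit_two_pow_add_eq, decide_eq_true rfl, Nat.testBit_lt_two_pow hlt]
          rfl
        · have : 2 ^ n + (k - 2 ^ n) < 2 ^ i :=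
            lt_of_lt_of_le (by omega : 2 ^ n + (k - 2 ^ n) < 2 ^ (n + 1)) (Nat.pow_le_pow_right two_pos h')
          rw [Nat.testBit_lt_two_pow this, decide_eq_false (Nat.ne_of_lt h'),
            Nat.testBit_lt_two_pow (lt_of_lt_of_le hlt (Nat.pow_le_pow_right two_pos (le_of_lt h')))]
          rfl
      rw [e]
      exact add _ _ (hb n (Nat.lt_succ_self n)) (ih _ (by rw [pow_succ] at hk; omega))

/-- The word of a combination of the three root elements. -/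
def tWord (b : ℕ) : List (ℕ × ℕ) :=
  (bif b.testBit 0 then hw 0 else []) ++ (bif b.testBit 1 then hw 1 else []) ++ (bif b.testBit 2 then hw 2 else [])

theorem tWord_ok : ∀ b < 8, (tWord b).all okS = true ∧ ∀ c < 8, sameAct (tWord b ++ tWord c) (tWord (b ^^^ c)) = true := by
  decide +kernel

theorem m_indep : ∀ k < 8, ∀ b < 8, (∀ y ∈ [16, 32, 64, 128], rho (2 * k) (act (tWord b) y) = y) → k = 0 ∧ b = 0 := by
  decide +kernel

theorem even_codes : ∀ k < 8, 2 * k ∈ W := by decide +kernel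

theorem double_xor : ∀ a < 8, ∀ b < 8, 2 * a ^^^ 2 * b = 2 * (a ^^^ b) := by decide +kernel

theorem shl_lt8 : ∀ k < 8, k <<< 5 < 256 ∧ k <<< 8 < 2048 := by decide +kernel

theorem split_coord : ∀ x < 2048, x = (x % 32) ^^^ (((x / 32) % 8) <<< 5) ^^^ ((x / 256) <<< 8) ∧ x / 256 < 8 := by
  decide +kernel

namespace Fr

variable (p : Fr z)

theorem ev_Q : ∀ k < 2 ^ 5, p.ev k ∈ p.Q ∧ p.π (p.ev k) = k >>> 1 := by
  refine span_bits ⟨by rw [p.ev_zero]; exact one_mem _, by rw [p.ev_zero, p.toCtx.pi_one]; rfl⟩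
    (fun a b ha hb => ⟨by rw [p.ev_xor]; exact mul_mem ha.1 hb.1, by
      rw [p.ev_xor, p.π_mul _ ha.1 _ hb.1, ha.2, hb.2, Nat.shiftRight_xor_distrib]⟩) 5 fun i hi => ?_
  rw [p.ev_bit (by omega)]
  obtain ⟨a, b, c⟩ := p.lift_u
  interval_cases i
  exacts [⟨p.X.mem, p.toCtx.pi_z⟩, ⟨p.hs, p.πs⟩, ⟨a.1, a.2⟩, ⟨b.1, b.2⟩, ⟨c.1, c.2⟩]

theorem ev_R : ∀ k < 2 ^ 3, p.R (p.ev (k <<< 5)) ∧ p.β (p.ev (k <<< 5)) = 2 * k := by
  have hlt : ∀ k < 2 ^ 3, k < 8 := fun k h => h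
  suffices h : ∀ k < 2 ^ 3, k < 8 ∧ p.R (p.ev (k <<< 5)) ∧ p.β (p.ev (k <<< 5)) = 2 * k from fun k hk => (h k hk).2
  refine span_bits (P := fun k => k < 8 ∧ p.R (p.ev (k <<< 5)) ∧ p.β (p.ev (k <<< 5)) = 2 * k)
    ⟨by norm_num, by rw [Nat.zero_shiftLeft, p.ev_zero]; exact p.toPt.E_R (Or.inl rfl),
      by rw [Nat.zero_shiftLeft, p.ev_zero]; exact p.toPt.β_E (Or.inl rfl)⟩
    (fun a b ha hb => ?_) 3 fun i hi => ?_
  · refine ⟨Nat.xor_lt_two_pow (n := 3) ha.1 hb.1, ?_, ?_⟩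
    · rw [Nat.shiftLeft_xor_distrib, p.ev_xor]; exact p.toPt.R_mul ha.2.1 hb.2.1
    · rw [Nat.shiftLeft_xor_distrib, p.ev_xor, p.toPt.β_mul ha.2.1 hb.2.1, ha.2.2, hb.2.2, double_xor a ha.1 b hb.1]
  · have key : ∀ u ∈ [2, 4, 8], p.R (p.ru u) ∧ p.β (p.ru u) = u := fun u hu => by
      obtain ⟨hl, hW, hq⟩ := p.lift_xu hu
      exact ⟨(hl.rof_R hW hq).1, (hl.rof_R hW hq).2.1⟩
    refine ⟨by interval_cases i <;> norm_num, ?_⟩
    rw [show (2 ^ i) <<< 5 = 2 ^ (i + 5) by rw [Nat.shiftLeft_eq, ← pow_add], p.ev_bit (by omega)]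
    interval_cases i
    exacts [key 2 (by decide), key 4 (by decide), key 8 (by decide)]

theorem ev_L : ∀ b < 2 ^ 3, p.ev (b <<< 8) = p.toQt.Lf (el (tWord b)) := by
  suffices h : ∀ b < 2 ^ 3, b < 8 ∧ p.ev (b <<< 8) = p.toQt.Lf (el (tWord b)) from fun b hb => (h b hb).2
  refine span_bits (P := fun b => b < 8 ∧ p.ev (b <<< 8) = p.toQt.Lf (el (tWord b)))
    ⟨by norm_num, by rw [Nat.zero_shiftLeft, p.ev_zero]; exact p.toQt.Lf_one.symm⟩
    (fun a b ha hb => ⟨Nat.xor_lt_two_pow (n := 3) ha.1 hb.1, ?_⟩) 3 fun i hi => ⟨by interval_cases i <;> norm_num, ?_⟩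
  · obtain ⟨oa, e⟩ := tWord_ok a ha.1
    obtain ⟨ob, -⟩ := tWord_ok b hb.1
    rw [Nat.shiftLeft_xor_distrib, p.ev_xor, ha.2, hb.2, ← p.toQt.Lf_mul (el_mem oa) (el_mem ob), ← el_append,
      el_eq (e b hb.1)]
  · rw [show (2 ^ i) <<< 8 = 2 ^ (i + 8) by rw [Nat.shiftLeft_eq, ← pow_add], p.ev_bit (by omega)]
    interval_cases i <;> rfl

/-- The action of an element with given coordinates. -/
theorem ev_m {x : ℕ} (hx : x < 2048) {y : ℕ} (hy : y < 256) :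
    cd (p.toCtx.m (p.ev x)) y = rho (2 * ((x / 32) % 8)) (act (tWord (x / 256)) y) := by
  obtain ⟨e, hb⟩ := split_coord x hx
  obtain ⟨hQ, -⟩ := p.ev_Q (x % 32) (Nat.mod_lt _ (by norm_num))
  obtain ⟨hR, hβ⟩ := p.ev_R ((x / 32) % 8) (Nat.mod_lt _ (by norm_num))
  have hL := p.ev_L (x / 256) hb
  obtain ⟨ok, -⟩ := tWord_ok _ hb
  obtain ⟨hLg, hm⟩ := p.toQt.Lf_spec (el_mem ok)
  have c1 := p.X.central _ hQ
  conv_lhs => rw [e, p.ev_xor, p.ev_xor, p.toCtx.m_mul (c1.mul_left hR.2) (by rw [hL]; exact hLg.1.1),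
    p.toCtx.m_mul c1 hR.2, (p.toCtx.m_one_iff c1).mpr hQ, one_mul, hL, hm]
  rw [cd_mul, cd_el (okP_of_okS ok) hy, p.toPt.m_rho hR _ (by rw [← cd_el (okP_of_okS ok) hy]; exact cd_lt _ _), hβ]

theorem ev_eq_one {x : ℕ} (hx : x < 2048) (h : p.ev x = 1) : x = 0 := by
  have hk : ∀ y ∈ [16, 32, 64, 128], y < 256 := by decide
  obtain ⟨e1, e2⟩ := m_indep ((x / 32) % 8) (Nat.mod_lt _ (by norm_num)) (x / 256) (split_coord x hx).2 fun y hy => by
    rw [← p.ev_m hx (hk y hy), h, p.toCtx.m_one, cd_one (hk y hy)]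
  have h32 : x < 32 := by omega
  obtain ⟨-, hπ⟩ := p.ev_Q x h32
  rw [h, p.toCtx.pi_one] at hπ
  have : x = 0 ∨ x = 1 := by rw [Nat.shiftRight_eq_div_pow] at hπ; omega
  rcases this with rfl | rfl
  · rfl
  · exfalso
    have := p.ev_bit (i := 0) (by norm_num)
    rw [show (2 : ℕ) ^ 0 = 1 from rfl, h] at this
    exact p.X.ne this.symm

theorem ev_inj {x y : ℕ} (hx : x < 2048) (hy : y < 2048) (h : p.ev x = p.ev y) : x = y := by
  refine xor_eq_zero'.mp (p.ev_eq_one (Nat.xor_lt_two_pow (n := 11) hx hy) ?_)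
  rw [p.ev_xor, h, p.ev_sq]

/-- The subgroup of the eleven involutions. -/
noncomputable def Ag : Subgroup G where
  carrier := {g | ∃ x < 2048, p.ev x = g}
  one_mem' := ⟨0, by norm_num, p.ev_zero⟩
  mul_mem' := by
    rintro _ _ ⟨x, hx, rfl⟩ ⟨y, hy, rfl⟩
    exact ⟨x ^^^ y, Nat.xor_lt_two_pow (n := 11) hx hy, p.ev_xor x y⟩
  inv_mem' := by
    rintro _ ⟨x, hx, rfl⟩
    exact ⟨x, hx, (inv_eq_of_mul_eq_one_right (p.ev_sq x)).symm⟩

theorem ev_mem {x : ℕ} (hx : x < 2048) : p.ev x ∈ p.Ag := ⟨x, hx, rfl⟩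

theorem gen_mem {i : ℕ} (hi : i < 11) : p.gen i ∈ p.Ag :=
  ⟨2 ^ i, Nat.pow_lt_pow_right (by norm_num) hi, p.ev_bit hi⟩

theorem card_Ag : Nat.card p.Ag = 2 ^ 11 := by
  let f : Fin 2048 → p.Ag := fun x => ⟨p.ev x, p.ev_mem x.2⟩
  have hf : Function.Bijective f :=
    ⟨fun x y h => Fin.ext (p.ev_inj x.2 y.2 (congrArg Subtype.val h)),
      fun ⟨g, x, hx, e⟩ => ⟨⟨x, hx⟩, Subtype.ext e⟩⟩
  rw [← Nat.card_eq_of_bijective f hf, Nat.card_fin]
  norm_num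

theorem z_mem : z ∈ p.Ag := p.gen_mem (i := 0) (by norm_num)

theorem Ag_elem : Cfsg.IsElementaryAbelian 2 p.Ag := by
  refine ⟨⟨⟨?_⟩⟩, ?_⟩
  · rintro ⟨_, x, hx, rfl⟩ ⟨_, y, hy, rfl⟩
    exact Subtype.ext (p.ev_comm x y).eq
  · rintro _ ⟨x, hx, rfl⟩
    rw [pow_two]; exact p.ev_sq x

end Fr

end Cfsg.Lib.ConwayType
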