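import Cfsg.Agent.ConwayType.Count
import Cfsg.Agent.ConwayType.MathieuLocal.Core

/-!
The centralizer of the five involutions in `Q` is the eleven-dimensional group.
-/

set_option autoImplicit false
set_option maxRecDepth 100000
set_option maxHeartbeats 1000000
set_option linter.unusedSectionVars false
set_option linter.style.haveILetI false

namespace Cfsg.Lib.ConwayType

open Subgroup Cfsg.Lib.ConwayType.Code

universe u

variable {G : Type u} [Group G] [Finite G] {z : G}

/-- The elements fixing the totally singular space of the codes below sixteen. -/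
theorem fix_four_list : ((candL [1, 2, 4, 8] 16).all fun a => (candL [1, 2, 4, 8] 32).all fun b =>
    pB a b || (candL [1, 2, 4, 8] 64).all fun c => pB a c || pB b c ||
      (candL [1, 2, 4, 8] 128).all fun d => pB a d || pB b d || pB c d ||
        ((List.range 8).any fun k => (List.range 8).any fun t => rho (2 * k) (act (tWord t) 16) == a &&
          rho (2 * k) (act (tWord t) 32) == b && rho (2 * k) (act (tWord t) 64) == c &&
          rho (2 * k) (act (tWord t) 128) == d)) = true := by decide +kernel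

theorem low_fix : ∀ k < 8, ∀ t < 8, ∀ y ∈ [1, 2, 4, 8], rho (2 * k) (act (tWord t) y) = y := by decide +kernel

theorem coord_parts : ∀ k < 8, ∀ t < 8, (k <<< 5 ^^^ t <<< 8) < 2048 ∧ (k <<< 5 ^^^ t <<< 8) / 32 % 8 = k ∧
    (k <<< 5 ^^^ t <<< 8) / 256 = t := by decide +kernel

theorem perp_low : ∀ v < 256, (∀ u ∈ [1, 2, 4, 8], pB v u = false) → v < 16 := by decide +kernel

namespace Fr

variable (p : Fr z)

theorem ev_code {x : ℕ} (hx : x < 16) : p.ev (2 * x) ∈ p.Q ∧ p.π (p.ev (2 * x)) = x := by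
  obtain ⟨h1, h2⟩ := p.ev_Q (2 * x) (by norm_num; omega)
  refine ⟨h1, h2.trans ?_⟩
  rw [Nat.shiftRight_eq_div_pow]; omega

/-- The centralizer of the five involutions. -/
theorem mem_Ag {y : G} (h : ∀ i < 5, Commute y (p.ev (2 ^ i))) : y ∈ p.Ag := by
  have hy : Commute y z := by
    have := h 0 (by norm_num)
    rwa [p.ev_bit (i := 0) (by norm_num)] at this
  have hcom : ∀ u ∈ [1, 2, 4, 8], ∃ v ∈ p.Q, p.π v = u ∧ Commute y v := by
    intro u hu
    obtain ⟨i, hi, hu', he⟩ : ∃ i < 5, 2 * u = 2 ^ i ∧ u < 16 :=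
      (by decide +kernel : ∀ u ∈ [1, 2, 4, 8], ∃ i < 5, 2 * u = 2 ^ i ∧ u < 16) u hu
    obtain ⟨a, b⟩ := p.ev_code he
    exact ⟨_, a, b, by rw [hu']; exact h i hi⟩
  have hfix : ∀ u ∈ [1, 2, 4, 8], u < 256 ∧ cd (p.toCtx.m y) u = u := fun u hu => by
    obtain ⟨v, hv, e, hc⟩ := hcom u hu
    refine ⟨by rw [← e]; exact p.π_lt v, ?_⟩
    rw [← e, ← p.toCtx.act hy hv, hc.eq, mul_inv_cancel_right]
  set g := p.toCtx.m y
  have cand : ∀ v < 256, cd g v ∈ candL [1, 2, 4, 8] v := fun v hv => by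
    simp only [candL, List.mem_filter, List.mem_range, Bool.and_eq_true, beq_iff_eq, List.all_eq_true]
    refine ⟨cd_lt g v, cd_q g hv, fun n hn => ?_⟩
    obtain ⟨hl, hf⟩ := hfix n hn
    conv_lhs => rw [← hf]
    exact cd_p g hv hl
  have hp : ∀ a b : ℕ, a < 256 → b < 256 → pB a b = false → pB (cd g a) (cd g b) = false := fun a b ha hb e => by
    rw [cd_p g ha hb, e]
  have H1 := List.all_eq_true.mp (List.all_eq_true.mp fix_four_list _ (cand 16 (by norm_num))) _ (cand 32 (by norm_num))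
  rw [hp 16 32 (by norm_num) (by norm_num) (by decide +kernel), Bool.false_or] at H1
  have H2 := List.all_eq_true.mp H1 _ (cand 64 (by norm_num))
  rw [hp 16 64 (by norm_num) (by norm_num) (by decide +kernel), hp 32 64 (by norm_num) (by norm_num) (by decide +kernel),
    Bool.false_or, Bool.false_or] at H2
  have H3 := List.all_eq_true.mp H2 _ (cand 128 (by norm_num))
  rw [hp 16 128 (by norm_num) (by norm_num) (by decide +kernel),
    hp 32 128 (by norm_num) (by norm_num) (by decide +kernel),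
    hp 64 128 (by norm_num) (by norm_num) (by decide +kernel), Bool.false_or, Bool.false_or, Bool.false_or] at H3
  simp only [List.any_eq_true, List.mem_range, Bool.and_eq_true, beq_iff_eq] at H3
  obtain ⟨k, hk, t, ht, ⟨⟨e16, e32⟩, e64⟩, e128⟩ := H3
  obtain ⟨hx, hxr, hxt⟩ := coord_parts k hk t ht
  set x := k <<< 5 ^^^ t <<< 8
  have hm : g = p.toCtx.m (p.ev x) := cd_basis fun v hv => by
    have hv' := basis8_lt v hv
    rw [p.ev_m hx hv', hxr, hxt]
    simp only [List.mem_cons, List.not_mem_nil, or_false] at hv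
    rcases hv with rfl | rfl | rfl | rfl | rfl | rfl | rfl | rfl
    · rw [(hfix 1 (by decide)).2, low_fix k hk t ht 1 (by decide)]
    · rw [(hfix 2 (by decide)).2, low_fix k hk t ht 2 (by decide)]
    · rw [(hfix 4 (by decide)).2, low_fix k hk t ht 4 (by decide)]
    · rw [(hfix 8 (by decide)).2, low_fix k hk t ht 8 (by decide)]
    · exact e16.symm
    · exact e32.symm
    · exact e64.symm
    · exact e128.symm
  obtain ⟨y0, hy0⟩ : ∃ y0, y0 = y * p.ev x := ⟨_, rfl⟩
  have hy0z : Commute y0 z := hy0 ▸ hy.mul_left (p.ev_T x).1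
  have hy0Q : y0 ∈ p.Q := (p.toCtx.m_one_iff hy0z).mp (by
    have h2 : g * p.toCtx.m (p.ev x) = 1 := by
      rw [hm, ← p.toCtx.m_mul (p.ev_T x).1 (p.ev_T x).1, p.ev_sq, p.toCtx.m_one]
    rw [hy0, p.toCtx.m_mul hy (p.ev_T x).1]; exact h2)
  have hπ : p.π y0 < 16 := by
    refine perp_low _ (p.π_lt y0) fun u hu => ?_
    obtain ⟨i, hi, hu', he⟩ : ∃ i < 5, 2 * u = 2 ^ i ∧ u < 16 :=
      (by decide +kernel : ∀ u ∈ [1, 2, 4, 8], ∃ i < 5, 2 * u = 2 ^ i ∧ u < 16) u hu
    obtain ⟨a, b⟩ := p.ev_code he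
    rw [← b]
    refine (p.π_comm _ hy0Q _ a).mp ?_
    rw [hy0]
    exact (by rw [hu']; exact h i hi : Commute y (p.ev (2 * u))).mul_left (p.ev_comm _ _)
  obtain ⟨a, b⟩ := p.ev_code hπ
  have hmem : y0 ∈ p.Ag := by
    rcases p.toCtx.pi_eq hy0Q a b.symm with e | e <;> rw [e]
    · exact p.ev_mem (by omega)
    · exact mul_mem p.z_mem (p.ev_mem (by omega))
  have := mul_mem hmem (p.ev_mem hx)
  rwa [hy0, mul_assoc, p.ev_sq, mul_one] at this

end Fr

end Cfsg.Lib.ConwayType
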