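import Cfsg.Agent.ConwayType.Fusion

/-!
An involution acting with sixty-four fixed codes is in the class of the distinguished involution exactly when it
centralizes all lifts of its fixed codes.
-/

set_option autoImplicit false
set_option maxRecDepth 100000
set_option maxHeartbeats 1000000
set_option linter.unusedSectionVars false
set_option linter.style.haveILetI false

namespace Cfsg.Lib.ConwayType

open Subgroup Cfsg.Lib.ConwayType.Code

universe u

variable {G : Type u} [Group G] [Finite G] {z : G}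

namespace Pt

variable (p : Pt z)

/-- The criterion. -/
theorem z_class_iff {y : G} (hy : Commute y z) (hyy : y * y = 1) (h64 : (fixSet (p.toCtx.m y)).card = 64) :
    IsConj z y ↔ ∀ v ∈ p.Q, p.π (y * v * y⁻¹) = p.π v → Commute v y := by
  have hgg : p.toCtx.m y * p.toCtx.m y = 1 := by rw [← p.toCtx.m_mul hy hy, hyy, p.toCtx.m_one]
  obtain ⟨h, hh, w, hw, hw0, heq⟩ := inv_rad hgg h64
  obtain ⟨d, q, r, hd, hq, hr, e, hb⟩ := p.normal_form hy hyy hh hw hw0 heq
  have hb0 : p.β r ≠ 0 := by rw [hb]; exact hw0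
  have hcj : IsConj (q * r) y := isConj_iff.mpr ⟨d⁻¹, by rw [← e]; group⟩
  have h2 : q * r * (q * r) = 1 := by
    rw [← e, show d * y * d⁻¹ * (d * y * d⁻¹) = d * (y * y) * d⁻¹ by group, hyy, mul_one, mul_inv_cancel]
  have hfix : ∀ v ∈ p.Q, (p.π (y * v * y⁻¹) = p.π v ↔
      rho (p.β r) (p.π (d * v * d⁻¹)) = p.π (d * v * d⁻¹)) ∧
      (Commute v y ↔ Commute (d * v * d⁻¹) (q * r)) := by
    intro v hv
    refine ⟨?_, ?_⟩
    · have hn := p.toCtx.norm hy hv
      have hv' := p.toCtx.norm hd hv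
      have e1 : p.π (q * r * (d * v * d⁻¹) * (q * r)⁻¹) = rho (p.β r) (p.π (d * v * d⁻¹)) := by
        rw [p.toCtx.act (p.T_mul (p.A_T hq) (p.R_T hr)).1 hv', p.m_prod hq hr, cd_rhoE _ (p.π_lt _)]
      have e2 : q * r * (d * v * d⁻¹) * (q * r)⁻¹ = d * (y * v * y⁻¹) * d⁻¹ := by rw [← e]; group
      rw [← e1, e2, p.toCtx.act hd hn, p.toCtx.act hd hv]
      exact ⟨fun h => by rw [h], fun h => cd_inj _ (p.π_lt _) (p.π_lt _) h⟩
    · rw [← e]; exact (Commute.conj_iff d).symm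
  have surj : ∀ x ∈ p.Q, ∃ v ∈ p.Q, d * v * d⁻¹ = x := fun x hx =>
    ⟨d⁻¹ * x * d⁻¹⁻¹, p.toCtx.norm hd.inv_left hx, by group⟩
  by_cases h0 : p.α q = 0 ∨ p.α q = p.β r
  · have hz : IsConj z (q * r) := by
      rcases h0 with h0 | h0
      · have hR := p.R_mul (p.E_R (p.α_zero hq h0)) hr
        refine p.R_invol hR h2 ?_
        rw [p.β_mul (p.E_R (p.α_zero hq h0)) hr, p.β_E (p.α_zero hq h0), Nat.zero_xor]
        exact hb0
      · exact p.same_vector hq hr h0 hb0 h2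
    refine iff_of_true (hz.trans hcj) fun v hv hf => ?_
    have hv' := p.toCtx.norm hd hv
    obtain ⟨hp, hpb⟩ := (rho_fix_iff (p.β_mem r) hb0 (p.π_lt _)).mp ((hfix v hv).1.mp hf)
    refine (hfix v hv).2.mpr ((p.comm_prod hq hr hb0 hv').mpr ⟨p.A_of_perp hv' hp, ?_, hpb⟩)
    rcases h0 with h0 | h0 <;> rw [h0]
    · rw [pB_comm, pB_zero]
    · exact hpb
  · rw [not_or] at h0
    refine iff_of_false (fun hz => ?_) fun hall => ?_
    · obtain ⟨s1, s2⟩ := (p.prod_sq hq hr).mp h2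
      rcases sing_pair _ (p.α_mem q) _ (p.β_mem r) hb0 s1 s2 with h | ⟨h, -⟩ | ⟨n0, nb, ha, hbq, hab⟩ | ⟨ha, hbq, hab⟩
      · exact h0.1 h
      · exact h0.2 h
      · obtain ⟨q2, r2, hq2, hr2, a2, b2⟩ := p.exists_ti
        exact p.ti_not_z hq2 hr2 a2 b2
          ((hz.trans hcj.symm).trans (p.ti_class ⟨hq, hr, ha, hbq, hab, n0, hb0, nb⟩ hq2 hr2 a2 b2).symm)
      · obtain ⟨q1, r1, hq1, hr1, a1, b1⟩ := p.exists_tt
        exact p.tt_not_z hq1 hr1 a1 b1
          ((hz.trans hcj.symm).trans (p.tt_class ⟨hq, hr, ha, hbq, hab⟩ hq1 hr1 a1 b1).symm)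
    · obtain ⟨c, hc, c1, c2⟩ := pair_partner _ (p.α_mem q) _ (p.β_mem r) h0.1 hb0 h0.2 true false
      obtain ⟨x, hx, hxa⟩ := p.α_surj hc
      obtain ⟨v, hv, hve⟩ := surj x hx.1
      have hf : p.π (y * v * y⁻¹) = p.π v := (hfix v hv).1.mpr (by
        rw [hve]
        refine (rho_fix_iff (p.β_mem r) hb0 (p.π_lt x)).mpr ⟨p.A_perp hx, ?_⟩
        show pB (p.α x) (p.β r) = false
        rw [hxa]; exact c2)
      have h3 := (hfix v hv).2.mp (hall v hv hf)
      rw [hve] at h3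
      have := ((p.comm_prod hq hr hb0 hx.1).mp h3).2.1
      rw [hxa, c1] at this
      exact Bool.noConfusion this

end Pt

end Cfsg.Lib.ConwayType
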