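import Cfsg.Agent.ConwayType.MathieuLocal.Maps
import Cfsg.Agent.ConwayType.MathieuLocal.Criterion
import Cfsg.Agent.ConwayType.MathieuLocal.Data

/-!
The class of the distinguished involution inside the eleven-dimensional group.
-/

set_option autoImplicit false
set_option maxRecDepth 100000
set_option maxHeartbeats 1000000
set_option linter.unusedSectionVars false
set_option linter.style.haveILetI false

namespace Cfsg.Lib.ConwayType

open Subgroup Cfsg.Lib.ConwayType.Code

universe u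

variable {G : Type u} [Group G] [Finite G] {z : G}

namespace Local

/-- The set reached by a derivation. -/
def growT : List (ℕ × ℕ) → ℕ → Option ℕ
  | [], acc => some acc
  | (v, k) :: l, acc =>
    if acc.testBit v && decide (k < 11) then growT l (acc ||| 1 <<< lap (mats.getD k []) v) else none

theorem growT_sound {P : ℕ → Prop} (hP : ∀ v, ∀ k < 11, P v → P (lap (mats.getD k []) v)) :
    ∀ (l : List (ℕ × ℕ)) (acc out : ℕ), growT l acc = some out → (∀ v, acc.testBit v = true → P v) →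
      ∀ v, out.testBit v = true → P v
  | [], acc, out, h, ha => by
    obtain rfl : acc = out := Option.some.inj h
    exact ha
  | (v, k) :: l, acc, out, h, ha => by
    simp only [growT] at h
    split at h
    · next hc =>
      simp only [Bool.and_eq_true, decide_eq_true_eq] at hc
      refine growT_sound hP l _ out h fun u hu => ?_
      rw [Nat.testBit_or, Bool.or_eq_true] at hu
      rcases hu with hu | hu
      · exact ha u hu
      · rw [Nat.one_shiftLeft, Nat.testBit_two_pow, decide_eq_true_eq] at hu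
        exact hu ▸ hP v k hc.2 (ha v hc.1)
    · exact absurd h (by simp)

/-- The set of a derivation from a root. -/
def reach (r : ℕ) (l : List (ℕ × ℕ)) : ℕ := (growT l (1 <<< r)).getD 0

theorem reach_sound {P : ℕ → Prop} (hP : ∀ v, ∀ k < 11, P v → P (lap (mats.getD k []) v)) {r : ℕ} (hr : P r)
    (l : List (ℕ × ℕ)) {v : ℕ} (hv : (reach r l).testBit v = true) : P v := by
  rw [reach] at hv
  cases h : growT l (1 <<< r) with
  | none => rw [h] at hv; simp at hv
  | some out =>
    rw [h] at hv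
    refine growT_sound hP l _ out h (fun u hu => ?_) v hv
    rw [Nat.one_shiftLeft, Nat.testBit_two_pow, decide_eq_true_eq] at hu
    exact hu ▸ hr

/-- The coordinates of the class. -/
def sMask : ℕ := reach 1 treeOne ||| reach 4 treeSum ||| reach 260 treeMixed

/-- The coordinates outside the class. -/
def nMask : ℕ := reach 68 treePlain ||| reach 256 treeRoot ||| reach 262 treeShift

theorem masks_cover : sMask ||| nMask = 2 ^ 2048 - 2 ∧ sMask &&& nMask = 0 := by decide +kernel

theorem fix_hw0 : ((List.range 256).filter fun x => act (hw 0) x == x) = List.range 64 := by decide +kernel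

theorem wit_ok : lap (mX f1 32) 260 = 260 ∧ lap (mX f1 32) 256 ≠ 256 ∧ lap (mQ (false, false, false)) 260 = 260 ∧
    lap (mQ (false, false, false)) 262 ≠ 262 ∧ lap (mX f1 32) 256 < 2048 ∧
    lap (mQ (false, false, false)) 262 < 2048 ∧ tWord 1 = hw 0 ∧ act (hw 0) 32 = 32 ∧ act (hw 0) 16 = 16 := by
  decide +kernel

end Local

namespace Fr

open Local

variable (p : Fr z)

theorem ev_fix (x : ℕ) (hx : x < 2048) (hr : (x / 32) % 8 = 0) (hb : x / 256 = 1) :
    (∀ v < 256, cd (p.toCtx.m (p.ev x)) v = act (hw 0) v) ∧ (fixSet (p.toCtx.m (p.ev x))).card = 64 := by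
  have h : ∀ v < 256, cd (p.toCtx.m (p.ev x)) v = act (hw 0) v := fun v hv => by
    rw [p.ev_m hx hv, hr, hb, wit_ok.2.2.2.2.2.2.1, rho_zero]
    rw [← cd_el (okP_of_okS (hw_ok 0 (by norm_num)).1) hv]; exact cd_lt _ _
  refine ⟨h, ?_⟩
  have : fixSet (p.toCtx.m (p.ev x)) = ((List.range 256).filter fun v => act (hw 0) v == v).toFinset := by
    ext v
    simp only [mem_fixSet, List.mem_toFinset, List.mem_filter, List.mem_range, beq_iff_eq]
    exact ⟨fun ⟨a, b⟩ => ⟨a, (h v a).symm.trans b⟩, fun ⟨a, b⟩ => ⟨a, (h v a).trans b⟩⟩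
  rw [this, fix_hw0, List.toFinset_range, Finset.card_range]

theorem not_z_of_witness {x : ℕ} (hx : x < 2048) (hr : (x / 32) % 8 = 0) (hb : x / 256 = 1) {n : G} {M : List ℕ}
    (hn : n ∈ p.Q) (hfix : act (hw 0) (p.π n) = p.π n) (hM : p.Maps n M) (hlt : lap M x < 2048) (hne : lap M x ≠ x) :
    ¬ IsConj z (p.ev x) := by
  obtain ⟨h, h64⟩ := p.ev_fix x hx hr hb
  rw [p.toPt.z_class_iff (p.ev_T x).1 (p.ev_sq x) h64]
  intro hall
  have hc := hall n hn (by rw [p.toCtx.act (p.ev_T x).1 hn, h _ (p.π_lt n), hfix])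
  have := hM.ev x
  rw [hc.eq, mul_inv_cancel_right] at this
  exact hne (p.ev_inj hlt hx this.symm)

theorem base_classes : IsConj z (p.ev 1) ∧ IsConj z (p.ev 4) ∧ IsConj z (p.ev 260) ∧ ¬ IsConj z (p.ev 68) ∧
    ¬ IsConj z (p.ev 256) ∧ ¬ IsConj z (p.ev 262) := by
  obtain ⟨c1, c2, c3, c4, c5, c6, -, c8, c9⟩ := wit_ok
  obtain ⟨M32, -, -⟩ := p.maps_lifts
  refine ⟨by rw [p.ev_z], ?_, ?_, ?_, ?_, ?_⟩
  · refine p.toPt.Q_invol (p.ev_Q 4 (by norm_num)).1 (p.ev_sq 4) fun e => ?_
    exact absurd (p.ev_eq_one (by norm_num) e) (by norm_num)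
  · obtain ⟨h, h64⟩ := p.ev_fix 260 (by norm_num) rfl rfl
    rw [p.toPt.z_class_iff (p.ev_T 260).1 (p.ev_sq 260) h64]
    intro v hv hfv
    rw [p.toCtx.act (p.ev_T 260).1 hv, h _ (p.π_lt v)] at hfv
    have hv64 : p.π v < 2 ^ 6 := by
      have : p.π v ∈ (List.range 256).filter fun x => act (hw 0) x == x :=
        List.mem_filter.mpr ⟨List.mem_range.mpr (p.π_lt v), beq_iff_eq.mpr hfv⟩
      rw [fix_hw0] at this
      exact List.mem_range.mp this
    have hall : ∀ k < 2 ^ 6, ∃ u ∈ p.Q, p.π u = k ∧ Commute u (p.ev 260) := by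
      refine span_bits ⟨1, one_mem _, p.toCtx.pi_one, Commute.one_left _⟩ ?_ 6 ?_
      · rintro a b ⟨u, hu, rfl, cu⟩ ⟨u', hu', rfl, cu'⟩
        exact ⟨u * u', mul_mem hu hu', p.π_mul u hu u' hu', cu.mul_left cu'⟩
      · intro i hi
        obtain ⟨a, b, c⟩ := p.lift_u
        have cm : ∀ {n : G} {M : List ℕ}, p.Maps n M → lap M 260 = 260 → Commute n (p.ev 260) := fun {n M} hM e => by
          have := hM.ev 260
          rw [e] at this
          exact mul_inv_eq_iff_eq_mul.mp this
        have cg : ∀ j < 11, Commute (p.gen j) (p.ev 260) := fun j hj => by rw [← p.ev_bit hj]; exact p.ev_comm _ _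
        interval_cases i
        exacts [⟨p.s, p.hs, p.πs, cg 1 (by norm_num)⟩, ⟨_, a.1, a.2, cg 2 (by norm_num)⟩,
          ⟨_, b.1, b.2, cg 3 (by norm_num)⟩, ⟨_, c.1, c.2, cg 4 (by norm_num)⟩,
          ⟨p.q, p.hq, p.πq, cm p.maps_q c3⟩, ⟨p.x32, p.lift32.1, p.lift32.2, cm M32 c1⟩]
    obtain ⟨u, hu, hπ, hc⟩ := hall _ hv64
    rcases p.toCtx.pi_eq hv hu hπ.symm with e | e <;> rw [e]
    · exact hc
    · exact ((p.ev_T 260).1.symm).mul_left hc
  · have e : p.ev 68 = p.xu 2 * p.ru 4 := by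
      rw [show (68 : ℕ) = 2 ^ 2 ^^^ 2 ^ 6 from rfl, p.ev_xor, p.ev_bit (by norm_num), p.ev_bit (by norm_num)]
      rfl
    obtain ⟨h2, W2, -⟩ := p.lift_xu (u := 2) (by decide)
    obtain ⟨h4, W4, q4⟩ := p.lift_xu (u := 4) (by decide)
    obtain ⟨hR, hβ, -⟩ := h4.rof_R W4 q4
    rw [e]
    exact p.toPt.ti_not_z (h2.memA W2) hR (h2.α W2) hβ
  · exact p.not_z_of_witness (by norm_num) rfl rfl p.lift32.1 (by rw [p.lift32.2]; exact c8) M32 c5 c2
  · exact p.not_z_of_witness (by norm_num) rfl rfl p.hq (by rw [p.πq]; exact c9) p.maps_q c6 c4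

/-- The coordinates of the members of the class. -/
theorem z_class {x : ℕ} (hx : x < 2048) : IsConj z (p.ev x) ↔ sMask.testBit x = true := by
  obtain ⟨b1, b4, b260, b68, b256, b262⟩ := p.base_classes
  have step : ∀ v, ∀ k < 11, IsConj (p.ev v) (p.ev (lap (mats.getD k []) v)) := fun v k hk =>
    isConj_iff.mpr ⟨_, (p.maps_all k hk).ev v⟩
  have hS : ∀ v, sMask.testBit v = true → IsConj z (p.ev v) := by
    intro v hv
    rw [sMask, Nat.testBit_or, Nat.testBit_or, Bool.or_eq_true, Bool.or_eq_true] at hv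
    have hP : ∀ v, ∀ k < 11, IsConj z (p.ev v) → IsConj z (p.ev (lap (mats.getD k []) v)) :=
      fun v k hk h => h.trans (step v k hk)
    rcases hv with (hv | hv) | hv
    exacts [reach_sound (P := fun v => IsConj z (p.ev v)) hP b1 _ hv,
      reach_sound (P := fun v => IsConj z (p.ev v)) hP b4 _ hv,
      reach_sound (P := fun v => IsConj z (p.ev v)) hP b260 _ hv]
  refine ⟨fun h => ?_, hS x⟩
  by_contra hc
  rcases eq_or_ne x 0 with rfl | h0
  · rw [p.ev_zero] at h
    obtain ⟨c, hc'⟩ := isConj_iff.mp h.symm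
    simp only [mul_one, mul_inv_cancel] at hc'
    exact p.X.ne hc'.symm
  have hN : nMask.testBit x = true := by
    have ht : (2 ^ 2048 - 2 : ℕ).testBit x = true := by
      rw [show (2 ^ 2048 - 2 : ℕ) = 2 * (2 ^ 2047 - 1) by rw [Nat.mul_sub, ← pow_succ']]
      rw [← Nat.succ_pred_eq_of_pos (Nat.pos_of_ne_zero h0), Nat.testBit_succ, Nat.mul_div_cancel_left _ two_pos,
        Nat.testBit_two_pow_sub_one]
      simp only [decide_eq_true_eq, Nat.pred_eq_sub_one]
      omega
    rw [← masks_cover.1, Nat.testBit_or, Bool.or_eq_true] at ht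
    exact ht.resolve_left hc
  rw [nMask, Nat.testBit_or, Nat.testBit_or, Bool.or_eq_true, Bool.or_eq_true] at hN
  have hP : ∀ v, ∀ k < 11, ¬ IsConj z (p.ev v) → ¬ IsConj z (p.ev (lap (mats.getD k []) v)) :=
    fun v k hk h h' => h (h'.trans (step v k hk).symm)
  rcases hN with (hv | hv) | hv
  exacts [reach_sound (P := fun v => ¬ IsConj z (p.ev v)) hP b68 _ hv h,
    reach_sound (P := fun v => ¬ IsConj z (p.ev v)) hP b256 _ hv h,
    reach_sound (P := fun v => ¬ IsConj z (p.ev v)) hP b262 _ hv h]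

end Fr

end Cfsg.Lib.ConwayType
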