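import Cfsg.Agent.ConwayType.MathieuLocal.Tables
import Cfsg.Agent.ConwayType.MathieuLocal.Centre

/-!
The normalizer of the eleven-dimensional group acts on it as automorphisms of the code.
-/

set_option autoImplicit false
set_option maxRecDepth 100000
set_option maxHeartbeats 1000000
set_option linter.unusedSectionVars false
set_option linter.style.haveILetI false

namespace Cfsg.Lib.ConwayType

open Subgroup Cfsg.Lib.Golay Cfsg.Lib.Golay.Modules
open Cfsg.Lib.PermCert (PP valid)
open Cfsg.Lib.Golay.CodeRigid (cl Good Induced)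
open scoped Pointwise

universe u

variable {G : Type u} [Group G] [Finite G] {z : G}

namespace Fr

open Local

variable (p : Fr z)

/-- An element matches a permutation of the code. -/
def Rel (n : G) (σ : Equiv.Perm GolayPt) : Prop :=
  σ ∈ M24 ∧ ∀ x < 2048, ∃ y < 2048, n * p.ev x * n⁻¹ = p.ev y ∧ Cong (pw σ (vw x)) (vw y)

variable {p}

theorem Rel.apply {n : G} {σ : Equiv.Perm GolayPt} (h : p.Rel n σ) {x y : ℕ} (hx : x < 2048) (hy : y < 2048)
    (e : n * p.ev x * n⁻¹ = p.ev y) : Cong (pw σ (vw x)) (vw y) := by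
  obtain ⟨y', hy', e', hc⟩ := h.2 x hx
  rwa [p.ev_inj hy hy' (e.symm.trans e')]

theorem Rel.mul {n m : G} {σ τ : Equiv.Perm GolayPt} (h : p.Rel n σ) (h' : p.Rel m τ) : p.Rel (n * m) (σ * τ) := by
  refine ⟨mul_mem h.1 h'.1, fun x hx => ?_⟩
  obtain ⟨y, hy, e, hc⟩ := h'.2 x hx
  obtain ⟨w, hw, e', hc'⟩ := h.2 y hy
  refine ⟨w, hw, by rw [← e', ← e]; group, cong_trans ?_ hc'⟩
  have : pw (σ * τ) (vw x) = pw σ (pw τ (vw x)) := funext fun q => rfl
  rw [this]
  exact cong_pw σ hc

theorem Rel.oct {n : G} {σ : Equiv.Perm GolayPt} (h : p.Rel n σ) {x y : ℕ} (hx : x < 2048) (hy : y < 2048)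
    (e : n * p.ev x * n⁻¹ = p.ev y) (sx : sMask.testBit x = true) (sy : sMask.testBit y = true) :
    σ • pts (octOf (iota x)) = pts (octOf (iota y)) := by
  obtain ⟨ex, x8, xc⟩ := (iota_table x hx).2.2.2 sx
  obtain ⟨ey, y8, yc⟩ := (iota_table y hy).2.2.2 sy
  have hc : Cong (pw σ (wd (octOf (iota x)))) (wd (octOf (iota y))) :=
    cong_trans (cong_trans (cong_pw σ (cong_symm (cong_wd ex))) (h.apply hx hy e)) (cong_wd ey)
  rcases hc with hc | hc
  · have := congrArg support₂ hc
    rwa [support₂_pw, support₂_wd, support₂_wd] at this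
  · exfalso
    have h1 := congrArg hammingNorm hc
    rw [CodeRigid.norm_pw, CodeRigid.hammingNorm_add_one, CodeRigid.norm_wd, CodeRigid.norm_wd, x8, y8] at h1
    norm_num at h1

theorem Rel.unique {n : G} {σ τ : Equiv.Perm GolayPt} (h : p.Rel n σ) (h' : p.Rel n τ) : σ = τ := by
  have key : ∀ m ∈ octMasks, σ • pts m = τ • pts m := by
    intro m hm
    obtain ⟨hc, h8⟩ := mem_octMasks.mp hm
    rw [← pc_eq_card] at h8
    obtain ⟨hk, hd⟩ := code_coord hc
    obtain ⟨y, hy, e, -⟩ := h.2 _ hk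
    obtain ⟨hi, -, hcl, hS⟩ := iota_table _ hk
    have hS' : sMask.testBit (coordOf m) = true := by
      have hne : coordOf m ≠ 0 := fun e0 => by
        rw [e0] at hd
        rcases hd with d | d <;> rw [d] at h8 <;> revert h8 <;> decide +kernel
      have h1 : cl (pc (iota (coordOf m))) = 1 := by
        rcases hd with d | d
        · rw [← d, h8]; rfl
        · have e1 := CodeRigid.hammingNorm_add_one (wd (iota (coordOf m)))
          rw [← wd_all_ones, ← wd_xor, ← d, CodeRigid.norm_wd, CodeRigid.norm_wd, h8] at e1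
          rw [show pc (iota (coordOf m)) = 16 by omega]; rfl
      rw [hcl, if_neg hne] at h1
      by_contra hb
      rw [if_neg hb] at h1
      norm_num at h1
    have hSy : sMask.testBit y = true := (p.z_class hy).mp
      (((p.z_class hk).mpr hS').trans (isConj_iff.mpr ⟨n, e⟩))
    obtain ⟨he, hb8, hbc⟩ := hS hS'
    have hoct : octOf (iota (coordOf m)) = m := by
      rcases hd with d | d
      · rw [octOf, ← d, h8]; rfl
      · have e1 := CodeRigid.hammingNorm_add_one (wd (iota (coordOf m)))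
        rw [← wd_all_ones, ← wd_xor, ← d, CodeRigid.norm_wd, CodeRigid.norm_wd, h8] at e1
        rw [octOf, show pc (iota (coordOf m)) = 16 by omega]
        exact d.symm
    rw [← hoct, h.oct hk hy e hS' hSy, h'.oct hk hy e hS' hSy]
  refine inv_mul_eq_one.mp (Equiv.ext fun q => ?_) |>.symm
  set ρ := τ⁻¹ * σ with hρ
  have hfix : ∀ m ∈ octMasks, ρ • pts m = pts m := fun m hm => by
    rw [hρ, mul_smul, key m hm, inv_smul_smul]
  have hq := pidx_lt q
  have hall := point_octads _ hq
  have hmem : ρ q ∈ pts ((octMasks.filter fun m => m.testBit (pidx q)).foldl (· &&& ·) 16777215) := by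
    rw [mem_pts_foldl]
    refine ⟨?_, fun m hm => ?_⟩
    · rw [mem_pts, show (16777215 : ℕ) = 2 ^ 24 - 1 from rfl, Nat.testBit_two_pow_sub_one]
      exact decide_eq_true (pidx_lt _)
    · obtain ⟨hmo, hmb⟩ := List.mem_filter.mp hm
      rw [← hfix m hmo, show ρ q = ρ • q from rfl, Finset.smul_mem_smul_finset_iff, mem_pts]
      exact hmb
  rw [hall, mem_pts, Nat.testBit_two_pow, decide_eq_true_eq] at hmem
  exact pidx_injective hmem.symm

variable (p)

theorem rel_exists {n : G} (hn : n ∈ normalizer (p.Ag : Set G)) : ∃ σ, p.Rel n σ := by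
  classical
  have hex : ∀ x, x < 2048 → ∃ y < 2048, n * p.ev x * n⁻¹ = p.ev y := fun x hx => by
    obtain ⟨y, hy, e⟩ := (mem_normalizer_iff.mp hn _).mp (p.ev_mem hx)
    exact ⟨y, hy, e.symm⟩
  let fn : ℕ → ℕ := fun x => if h : x < 2048 then (hex x h).choose else 0
  have hfn : ∀ {x}, x < 2048 → fn x < 2048 ∧ n * p.ev x * n⁻¹ = p.ev (fn x) := fun {x} hx => by
    show (if h : _ then _ else _) < 2048 ∧ _ = p.ev (if h : _ then _ else _)
    rw [dif_pos hx]; exact (hex x hx).choose_spec
  have hadd : ∀ {x y}, x < 2048 → y < 2048 → fn (x ^^^ y) = fn x ^^^ fn y := fun {x y} hx hy => by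
    obtain ⟨a, a'⟩ := hfn hx
    obtain ⟨b, b'⟩ := hfn hy
    obtain ⟨c, c'⟩ := hfn (Nat.xor_lt_two_pow (n := 11) hx hy)
    refine p.ev_inj c (Nat.xor_lt_two_pow (n := 11) a b) ?_
    rw [← c', p.ev_xor, p.ev_xor, ← a', ← b']; group
  have h0 : fn 0 = 0 := by
    have := hadd (x := 0) (y := 0) (by norm_num) (by norm_num)
    rwa [Nat.xor_self, Nat.xor_self] at this
  have hclass : ∀ {x}, x < 2048 → cl (pc (iota (fn x))) = cl (pc (iota x)) := fun {x} hx => by
    obtain ⟨a, a'⟩ := hfn hx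
    have hiff : sMask.testBit (fn x) = sMask.testBit x := by
      rw [Bool.eq_iff_iff, ← p.z_class a, ← p.z_class hx]
      exact ⟨fun h => h.trans (isConj_iff.mpr ⟨n, a'⟩).symm, fun h => h.trans (isConj_iff.mpr ⟨n, a'⟩)⟩
    have hz : fn x = 0 ↔ x = 0 := by
      refine ⟨fun h => p.ev_eq_one hx ?_, fun h => by rw [h, h0]⟩
      rw [h, p.ev_zero] at a'
      exact conj_eq_one_iff.mp a'
    rw [(iota_table _ a).2.2.1, (iota_table _ hx).2.2.1, hiff]
    simp only [hz]
  let fm : ℕ → ℕ := fun m => iota (fn (coordOf m)) ^^^ (m ^^^ iota (coordOf m))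
  let f : (GolayPt → ZMod 2) → GolayPt → ZMod 2 := fun v => wd (fm (Cfsg.Lib.Golay.mk (support₂ v)))
  have hrem : ∀ {m}, inCode m = true → m ^^^ iota (coordOf m) = 0 ∨ m ^^^ iota (coordOf m) = 16777215 := fun {m} hm => by
    rcases (code_coord hm).2 with h | h
    · exact Or.inl (xor_eq_zero'.mpr h)
    · refine Or.inr ?_
      generalize iota (coordOf m) = k at h
      rw [h, Nat.xor_comm k, Nat.xor_assoc, Nat.xor_self, Nat.xor_zero]
  have hmk : ∀ v ∈ golayCode, inCode (Cfsg.Lib.Golay.mk (support₂ v)) = true := fun v hv => (mem_golayCode_iff v).mp hv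
  have hf : Good f := by
    refine ⟨fun v hv => ?_, fun v hv w hw => ?_, ?_, fun v hv => ?_⟩
    · obtain ⟨a, -⟩ := hfn (code_coord (hmk v hv)).1
      have hc : inCode (fm (Cfsg.Lib.Golay.mk (support₂ v))) = true := by
        refine inCode_xor (iota_table _ a).1 ?_
        rcases hrem (hmk v hv) with h | h <;> rw [h] <;> decide +kernel
      exact (wd_mem_iff (lt_of_inCode hc)).mpr hc
    · show wd (fm _) = wd (fm _) + wd (fm _)
      rw [← wd_xor, mk_add]
      congr 1
      dsimp only [fm]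
      rw [coordOf_xor, hadd (code_coord (hmk v hv)).1 (code_coord (hmk w hw)).1, iota_xor, iota_xor, xor_shuffle]
    · show wd (fm _) = 1
      have e : Cfsg.Lib.Golay.mk (support₂ (1 : GolayPt → ZMod 2)) = 16777215 := by
        rw [← wd_all_ones, mk_wd (by norm_num)]
      rw [e]
      dsimp only [fm]
      rw [coord_full, h0, iota_zero, Nat.xor_zero, Nat.zero_xor]
      exact wd_all_ones
    · obtain ⟨m, hm⟩ : ∃ m, m = Cfsg.Lib.Golay.mk (support₂ v) := ⟨_, rfl⟩
      have hmc : inCode m = true := hm ▸ hmk v hv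
      show cl (hammingNorm (wd (fm (Cfsg.Lib.Golay.mk (support₂ v))))) = _
      rw [← hm]
      conv_rhs => rw [← wd_mk_support₂ v, ← hm]
      obtain ⟨hk, hd⟩ := code_coord hmc
      have hcl := hclass hk
      rw [← CodeRigid.norm_wd, ← CodeRigid.norm_wd] at hcl
      rcases hrem hmc with h | h
      · dsimp only [fm]
        rw [h, Nat.xor_zero]
        conv_rhs => rw [xor_eq_zero'.mp h]
        exact hcl
      · have e2 : m = iota (coordOf m) ^^^ 16777215 := by
          generalize iota (coordOf m) = k at h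
          rw [← h, Nat.xor_comm m, ← Nat.xor_assoc, Nat.xor_self, Nat.zero_xor]
        dsimp only [fm]
        rw [h]
        conv_rhs => rw [e2]
        rw [wd_xor, wd_xor, wd_all_ones, CodeRigid.cl_add_one, CodeRigid.cl_add_one]
        exact hcl
  obtain ⟨σ, hσ, hσf⟩ := CodeRigid.induced hf
  refine ⟨σ, hσ, fun x hx => ⟨fn x, (hfn hx).1, (hfn hx).2, ?_⟩⟩
  obtain ⟨hc, hk, -⟩ := iota_table x hx
  have e : f (vw x) = vw (fn x) := by
    show wd (fm _) = _
    rw [vw, mk_wd (lt_of_inCode hc)]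
    simp only [fm, hk, Nat.xor_self, Nat.xor_zero]
    rfl
  have h := hσf _ (vw_mem hx)
  rw [e] at h
  exact cong_symm h

/-- The homomorphism to the group of the code. -/
noncomputable def toM24 : ↥(normalizer (p.Ag : Set G)) →* ↥M24 where
  toFun n := ⟨(p.rel_exists n.2).choose, (p.rel_exists n.2).choose_spec.1⟩
  map_one' := Subtype.ext ((p.rel_exists (one_mem _)).choose_spec.unique
    ⟨one_mem _, fun x hx => ⟨x, hx, by simp, Or.inl rfl⟩⟩)
  map_mul' n m := Subtype.ext ((p.rel_exists (mul_mem n.2 m.2)).choose_spec.unique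
    ((p.rel_exists n.2).choose_spec.mul (p.rel_exists m.2).choose_spec))

theorem toM24_rel (n : ↥(normalizer (p.Ag : Set G))) : p.Rel (n : G) (p.toM24 n : Equiv.Perm GolayPt) :=
  (p.rel_exists n.2).choose_spec

theorem toM24_eq (n : ↥(normalizer (p.Ag : Set G))) {σ : Equiv.Perm GolayPt} (h : p.Rel (n : G) σ) :
    (p.toM24 n : Equiv.Perm GolayPt) = σ :=
  (p.toM24_rel n).unique h

theorem ker_toM24 : p.toM24.ker = p.Ag.subgroupOf (normalizer (p.Ag : Set G)) := by
  ext n
  rw [MonoidHom.mem_ker, mem_subgroupOf]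
  constructor
  · intro h
    have hr := p.toM24_rel n
    rw [h] at hr
    refine p.mem_Ag fun i hi => mul_inv_eq_iff_eq_mul.mp ?_
    have hx : 2 ^ i < 2048 := lt_trans (Nat.pow_lt_pow_right (by norm_num) hi) (by norm_num)
    obtain ⟨y, hy, e, hc⟩ := hr.2 _ hx
    rw [e, vw_inj hx hy hc]
  · intro h
    refine Subtype.ext (p.toM24_eq n ⟨one_mem _, fun x hx => ⟨x, hx, ?_, Or.inl rfl⟩⟩)
    obtain ⟨y, -, e⟩ := h
    rw [← e, (p.ev_comm y x).eq, mul_inv_cancel_right]

end Fr

end Cfsg.Lib.ConwayType
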