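import Cfsg.Agent.Golay.Generators
import Cfsg.Agent.Golay.OctadStab
import Cfsg.Agent.ConwayType.MathieuLocal.Embed

/-!
The normalizer induces the whole group of the code.
-/

set_option autoImplicit false
set_option maxRecDepth 100000
set_option maxHeartbeats 1000000
set_option linter.unusedSectionVars false
set_option linter.style.haveILetI false

namespace Cfsg.Lib.ConwayType

open Subgroup Cfsg.Lib.Golay Cfsg.Lib.Golay.Modules Cfsg.Lib.ConwayType.Code
open Cfsg.Lib.PermCert (PP Level valid perm check size topGens grp card_grp)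
open scoped Pointwise

universe u

variable {G : Type u} [Group G] [Finite G] {z : G}

namespace Local

/-- The word exchanging the codes one and two. -/
def wx : List (ℕ × ℕ) := [(1, 32), (2, 16), (1, 32)]

theorem wx_ok : wx.all okP = true ∧ sameAct (wx ++ wx) [] = true ∧ (∀ v < 16, act wx v < 16) ∧ act wx 1 = 2 := by
  decide +kernel

theorem sig_ok : ∀ k < 11, valid 24 (sigs.getD k (0, 0)) = true ∧ preserves (sigs.getD k (0, 0)) = true ∧
    (mats.getD k []).all (fun y => decide (y < 2048)) = true ∧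
    ∀ i < 11, img (sigs.getD k (0, 0)) (iota (2 ^ i)) = iota (lap (mats.getD k []) (2 ^ i)) ∨
      img (sigs.getD k (0, 0)) (iota (2 ^ i)) = iota (lap (mats.getD k []) (2 ^ i)) ^^^ 16777215 := by decide +kernel

theorem trio_ok : check 24 trioChain = true ∧ size trioChain = 10752 ∧
    (topGens trioChain).all (fun g => img g (octOf (iota 1)) == octOf (iota 1) &&
      img g (octOf (iota 2)) == octOf (iota 2) && preserves g) = true ∧
    (match slpRun sigs pairSteps with
      | some out => (topGens trioChain).all fun g => decide (g ∈ out)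
      | none => false) = true := by decide +kernel

theorem move_ok : moveSecond.length = 30 ∧
    moveSecond.all (fun g => preserves g && img g (octOf (iota 1)) == octOf (iota 1)) = true ∧
    (moveSecond.map fun g => img g (octOf (iota 2))).Nodup := by decide +kernel

theorem sig0_ok : preserves sig0 = true ∧ img sig0 (octOf (iota 1)) = octOf (iota 1) ∧
    img sig0 (octOf (iota 2)) = octOf (iota 4) ∧
    sMask.testBit 1 = true ∧ sMask.testBit 2 = true ∧ sMask.testBit 4 = true ∧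
    octOf (iota 1) < 2 ^ 24 ∧ octOf (iota 2) < 2 ^ 24 := by decide +kernel

theorem slp_full : (match slpRun (sigs ++ [sig0]) trioSteps with
    | some out => [threeGens.getD 0 (0, 0), threeGens.getD 1 (0, 0), threeGens.getD 2 (0, 0)].all fun g => decide (g ∈ out)
    | none => false) = true := by decide +kernel

theorem img_pts {g : PP} (hg : valid 24 g = true) {m n : ℕ} (h : img g m = n) : toP g • pts m = pts n := by
  rw [← pts_img hg, h]

theorem valid_of_pres {g : PP} (h : preserves g = true) : valid 24 g = true := by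
  simp only [preserves, Bool.and_eq_true] at h; exact h.1

/-- The stabiliser of the two octads is the certified group. -/
theorem pair_stab : (grp 24 trioChain).map permHom.toMonoidHom =
    setStab (pts (octOf (iota 1))) ⊓ MulAction.stabilizer (Equiv.Perm GolayPt) (pts (octOf (iota 2))) := by
  classical
  obtain ⟨hc, hsz, htop, -⟩ := trio_ok
  obtain ⟨hlen, hmv, hnd⟩ := move_ok
  obtain ⟨-, -, -, s1, s2, -, l1, l2⟩ := sig0_ok
  refine Subgroup.eq_of_le_of_card_ge ?_ ?_
  · rw [Subgroup.map_le_iff_le_comap, grp, Subgroup.closure_le]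
    rintro _ ⟨g, hg, rfl⟩
    have h := List.all_eq_true.mp htop g hg
    simp only [Bool.and_eq_true, beq_iff_eq] at h
    have hv := valid_of_pres h.2
    exact ⟨⟨toP_mem_M24 h.2, MulAction.mem_stabilizer_iff.mpr (img_pts hv h.1.1)⟩,
      MulAction.mem_stabilizer_iff.mpr (img_pts hv h.1.2)⟩
  · rw [← Nat.card_congr (Subgroup.equivMapOfInjective (grp 24 trioChain) permHom.toMonoidHom permHom.injective).toEquiv,
      card_grp hc, hsz]
    obtain ⟨he, h8, hin⟩ := (iota_table 1 (by norm_num)).2.2.2 s1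
    have hO : pts (octOf (iota 1)) ∈ octads := pts_mem_octads hin h8
    have hmul := card_subgroup_inter (setStab (pts (octOf (iota 1)))) (pts (octOf (iota 2)))
    rw [card_setStab_octad hO] at hmul
    have horb : 30 ≤ (MulAction.orbit ↥(setStab (pts (octOf (iota 1)))) (pts (octOf (iota 2)))).ncard := by
      have h1 : (moveSecond.map fun g => img g (octOf (iota 2))).toFinset.card = 30 := by
        rw [List.toFinset_card_of_nodup hnd, List.length_map, hlen]
      rw [← h1, ← Set.ncard_coe_finset]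
      refine Set.ncard_le_ncard_of_injOn (fun m => pts m) (fun m hm => ?_) (fun a ha b hb e => ?_)
        (Set.toFinite _)
      · obtain ⟨g, hg, rfl⟩ := List.mem_map.mp (List.mem_toFinset.mp (Finset.mem_coe.mp hm))
        have h := List.all_eq_true.mp hmv g hg
        simp only [Bool.and_eq_true, beq_iff_eq] at h
        have hv := valid_of_pres h.1
        exact ⟨⟨toP g, toP_mem_M24 h.1, MulAction.mem_stabilizer_iff.mpr (img_pts hv h.2)⟩, (pts_img hv _).symm⟩
      · have hlt : ∀ m ∈ (moveSecond.map fun g => img g (octOf (iota 2))).toFinset, m < 2 ^ 24 := fun m hm => by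
          obtain ⟨g, hg, rfl⟩ := List.mem_map.mp (List.mem_toFinset.mp hm)
          have h := List.all_eq_true.mp hmv g hg
          simp only [Bool.and_eq_true, beq_iff_eq] at h
          exact Cfsg.Lib.Golay.img_lt (valid_of_pres h.1) _
        exact eq_of_pts_eq (hlt a (Finset.mem_coe.mp ha)) (hlt b (Finset.mem_coe.mp hb)) e
    have := Nat.mul_le_mul_left
      (Nat.card ↥(setStab (pts (octOf (iota 1))) ⊓ MulAction.stabilizer (Equiv.Perm GolayPt) (pts (octOf (iota 2))))) horb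
    omega

end Local

namespace Fr

open Local

variable (p : Fr z)

theorem norm_of_conj {n : G} (h : ∀ x < 2048, n * p.ev x * n⁻¹ ∈ p.Ag) : n ∈ normalizer (p.Ag : Set G) := by
  have hle : p.Ag.map (MulAut.conj n).toMonoidHom ≤ p.Ag := by
    rintro _ ⟨_, ⟨x, hx, rfl⟩, rfl⟩
    exact h x hx
  have heq : p.Ag.map (MulAut.conj n).toMonoidHom = p.Ag :=
    Subgroup.eq_of_le_of_card_ge hle (le_of_eq (Nat.card_congr
      (Subgroup.equivMapOfInjective p.Ag _ (MulAut.conj n).injective).toEquiv))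
  refine mem_normalizer_iff.mpr fun a => ⟨fun ha => ?_, fun ha => ?_⟩
  · rw [← heq]; exact ⟨a, ha, rfl⟩
  · rw [← heq] at ha
    obtain ⟨b, hb, e⟩ := ha
    have e' : n * b * n⁻¹ = n * a * n⁻¹ := e
    exact (mul_left_cancel (mul_right_cancel e') : b = a) ▸ hb

theorem norm_of_maps {n : G} {M : List ℕ} (h : p.Maps n M) (hM : M.all (fun y => decide (y < 2048)) = true) :
    n ∈ normalizer (p.Ag : Set G) :=
  p.norm_of_conj fun x _ => ⟨lap M x, lap_lt hM x, (h.ev x).symm⟩

theorem nE_mem (k : ℕ) (hk : k < 11) : p.nE.getD k 1 ∈ normalizer (p.Ag : Set G) :=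
  p.norm_of_maps (p.maps_all k hk) (sig_ok k hk).2.2.1

theorem nE_rel (k : ℕ) (hk : k < 11) : p.Rel (p.nE.getD k 1) (toP (sigs.getD k (0, 0))) := by
  obtain ⟨hv, hp, hM, hb⟩ := sig_ok k hk
  refine ⟨toP_mem_M24 hp, fun x hx => ⟨lap (mats.getD k []) x, lap_lt hM x, (p.maps_all k hk).ev x, ?_⟩⟩
  have h : x < 2048 ∧ Cong (pw (toP (sigs.getD k (0, 0))) (vw x)) (vw (lap (mats.getD k []) x)) := by
    refine span_bits (P := fun x => x < 2048 ∧ Cong (pw (toP (sigs.getD k (0, 0))) (vw x))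
      (vw (lap (mats.getD k []) x))) ⟨by norm_num, Or.inl ?_⟩ (fun a b ha hb => ?_) 11 (fun i hi => ?_) x
      (by norm_num; exact hx)
    · have e0 : lap (mats.getD k []) 0 = 0 := by simp [lap, Cfsg.Lib.Classical.OrthH1.lN, List.range_succ]
      rw [e0, vw, iota_zero, FixedCosets.pw_wd hv (by norm_num)]
      congr 1
    · refine ⟨Nat.xor_lt_two_pow (n := 11) ha.1 hb.1, ?_⟩
      have e : ∀ u v, vw (u ^^^ v) = vw u + vw v := fun u v => by rw [vw, iota_xor, wd_xor]; rfl
      rw [lap_xor, e, e, pw_add]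
      rcases ha.2 with h1 | h1 <;> rcases hb.2 with h2 | h2 <;> rw [h1, h2]
      · exact Or.inl rfl
      · exact Or.inr (by abel)
      · exact Or.inr (by abel)
      · refine Or.inl ?_
        rw [add_add_add_comm, CodeRigid.add_self', add_zero]
    · have hi' : 2 ^ i < 2048 := lt_of_lt_of_le (Nat.pow_lt_pow_right (by norm_num) hi) (by norm_num)
      refine ⟨hi', ?_⟩
      rw [vw, FixedCosets.pw_wd hv (lt_of_inCode (iota_table _ hi').1)]
      exact cong_wd (hb i hi)
  exact h.2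

/-- The image in the permutations. -/
noncomputable def Im : Subgroup (Equiv.Perm GolayPt) := p.toM24.range.map M24.subtype

theorem rel_mem_Im {n : G} (hn : n ∈ normalizer (p.Ag : Set G)) {σ : Equiv.Perm GolayPt} (h : p.Rel n σ) :
    σ ∈ p.Im :=
  ⟨p.toM24 ⟨n, hn⟩, ⟨_, rfl⟩, p.toM24_eq ⟨n, hn⟩ h⟩

theorem sigs_Im : ∀ g ∈ sigs, valid 24 g = true ∧ perm 24 g ∈ p.Im.comap permHom.toMonoidHom := by
  intro g hg
  obtain ⟨k, hk, rfl⟩ := List.getElem_of_mem hg
  have hk' : k < 11 := by simpa [sigs] using hk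
  rw [← List.getD_eq_getElem _ (0, 0) hk]
  exact ⟨(sig_ok k hk').1, p.rel_mem_Im (p.nE_mem k hk') (p.nE_rel k hk')⟩

theorem pair_stab_le : setStab (pts (octOf (iota 1))) ⊓
    MulAction.stabilizer (Equiv.Perm GolayPt) (pts (octOf (iota 2))) ≤ p.Im := by
  rw [← pair_stab, Subgroup.map_le_iff_le_comap, grp, Subgroup.closure_le]
  rintro _ ⟨g, hg, rfl⟩
  have h := trio_ok.2.2.2
  split at h
  · next out hout => exact (slpRun_sound _ _ _ hout p.sigs_Im g (by simpa using List.all_eq_true.mp h g hg)).2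
  · exact absurd h (by simp)

/-- An element outside the stabiliser of the three octads. -/
theorem exists_outer : ∃ c ∈ normalizer (p.Ag : Set G), c * p.ev 1 * c⁻¹ = p.ev 1 ∧ c * p.ev 2 * c⁻¹ = p.ev 4 := by
  obtain ⟨hok, hinv, hlow, h1⟩ := wx_ok
  obtain ⟨c0, hc0, hm0⟩ := p.toCtx.m_surj (el_mem_Om wx)
  obtain ⟨hx2, -, -⟩ := p.lift_u
  have hadj : ∃ c, Commute c z ∧ (∀ v < 16, cd (p.toCtx.m c) v < 16 ∧ cd (p.toCtx.m c)⁻¹ v < 16) ∧
      c * p.ev 2 * c⁻¹ = p.ev 4 := by
    have hli : el wx * el wx = 1 := by rw [← el_append, el_eq hinv]; rfl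
    have hb0 : ∀ v < 16, cd (p.toCtx.m c0) v < 16 ∧ cd (p.toCtx.m c0)⁻¹ v < 16 := fun v hv => by
      rw [hm0, inv_eq_of_mul_eq_one_right hli, cd_el hok (by omega)]
      exact ⟨hlow v hv, hlow v hv⟩
    have hπ : p.π (c0 * p.s * c0⁻¹) = 2 := by
      rw [p.toCtx.act hc0 p.hs, hm0, p.πs, cd_el hok (by norm_num), h1]
    have e4 : p.ev 4 = p.xu 2 := p.ev_bit (i := 2) (by norm_num)
    rw [e4, p.ev_s]
    rcases p.toCtx.pi_eq (p.toCtx.norm hc0 p.hs) hx2.1 (hπ.trans hx2.2.symm) with e | e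
    · exact ⟨c0, hc0, hb0, e⟩
    · have h32 := p.lift32
      have m32 : p.toCtx.m p.x32 = 1 := (p.toCtx.m_one_iff h32.commute_z).mpr h32.1
      have hm : p.toCtx.m (p.x32 * c0) = p.toCtx.m c0 := by rw [p.toCtx.m_mul h32.commute_z hc0, m32, one_mul]
      refine ⟨p.x32 * c0, h32.commute_z.mul_left hc0, by rw [hm]; exact hb0, ?_⟩
      have hn : ¬ Commute p.x32 (p.xu 2) := fun h => by
        have := (p.π_comm _ h32.1 _ hx2.1).mp h
        rw [h32.2, hx2.2] at this
        exact absurd this (by decide +kernel)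
      rw [show p.x32 * c0 * p.s * (p.x32 * c0)⁻¹ = p.x32 * (c0 * p.s * c0⁻¹) * p.x32⁻¹ by group, e,
        show p.x32 * (z * p.xu 2) * p.x32⁻¹ = p.x32 * z * p.x32⁻¹ * (p.x32 * p.xu 2 * p.x32⁻¹) by group,
        h32.commute_z.eq, mul_inv_cancel_right, p.X.not_commute_conj h32.1 hx2.1 hn, ← mul_assoc, p.X.zz, one_mul]
  obtain ⟨c, hcz, hcv, hcs⟩ := hadj
  have hz : c * p.ev 1 * c⁻¹ = p.ev 1 := by rw [p.ev_z, hcz.eq, mul_inv_cancel_right]
  refine ⟨c, ?_, hz, hcs⟩
  have hE : ∀ {e : G} {v : G}, Commute e z → (∀ u < 16, cd (p.toCtx.m e) u < 16) → v ∈ p.Q → p.π v < 16 →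
      e * v * e⁻¹ ∈ p.Q ∧ p.π (e * v * e⁻¹) < 16 := fun {e v} he h hv hπ =>
    ⟨p.toCtx.norm he hv, by rw [p.toCtx.act he hv]; exact h _ hπ⟩
  have hAE : ∀ {v : G}, v ∈ p.Q → p.π v < 16 → ∀ x < 2048, Commute (p.ev x) v := fun {v} hv hπ x _ => by
    obtain ⟨a, b⟩ := p.ev_code hπ
    rcases p.toCtx.pi_eq hv a b.symm with e | e <;> rw [e]
    · exact p.ev_comm _ _
    · exact ((p.ev_T x).1).mul_right (p.ev_comm _ _)
  refine p.norm_of_conj fun x hx => p.mem_Ag fun i hi => ?_
  have hi5 : 2 ^ i < 2 ^ 5 := Nat.pow_lt_pow_right (by norm_num) hi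
  obtain ⟨hq, hqπ⟩ := p.ev_Q (2 ^ i) hi5
  have hlt : p.π (p.ev (2 ^ i)) < 16 := by
    rw [hqπ, Nat.shiftRight_eq_div_pow]; norm_num at hi5 ⊢; omega
  obtain ⟨a, b⟩ := hE hcz.inv_left (fun u hu => by rw [p.toCtx.m_inv hcz]; exact (hcv u hu).2) hq hlt
  have h := (Commute.conj_iff c).mpr (hAE a b x hx)
  rwa [show c * (c⁻¹ * p.ev (2 ^ i) * c⁻¹⁻¹) * c⁻¹ = p.ev (2 ^ i) by group] at h

/-- Every automorphism of the code is induced. -/
theorem toM24_surjective : Function.Surjective p.toM24 := by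
  obtain ⟨c, hc, c1, c2⟩ := p.exists_outer
  obtain ⟨hp0, i1, i2, s1, s2, s4, -, -⟩ := sig0_ok
  have hv0 := valid_of_pres hp0
  have hr := p.toM24_rel ⟨c, hc⟩
  set σ : Equiv.Perm GolayPt := ↑(p.toM24 ⟨c, hc⟩)
  have o1 := hr.oct (x := 1) (y := 1) (by norm_num) (by norm_num) c1 s1 s1
  have o2 := hr.oct (x := 2) (y := 4) (by norm_num) (by norm_num) c2 s2 s4
  have hmM : (toP sig0)⁻¹ * σ ∈ M24 := M24.mul_mem (M24.inv_mem (toP_mem_M24 hp0)) hr.1
  have hk : (toP sig0)⁻¹ * σ ∈ p.Im := p.pair_stab_le (Subgroup.mem_inf.mpr ⟨Subgroup.mem_inf.mpr ⟨hmM,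
    MulAction.mem_stabilizer_iff.mpr (by rw [mul_smul, o1, inv_smul_eq_iff]; exact (img_pts hv0 i1).symm)⟩,
    MulAction.mem_stabilizer_iff.mpr (by rw [mul_smul, o2, inv_smul_eq_iff]; exact (img_pts hv0 i2).symm)⟩)
  have h0 : toP sig0 ∈ p.Im := by
    have := mul_mem (p.rel_mem_Im hc hr) (inv_mem hk)
    rwa [mul_inv_rev, inv_inv, mul_inv_cancel_left] at this
  have hbase : ∀ g ∈ sigs ++ [sig0], valid 24 g = true ∧ perm 24 g ∈ p.Im.comap permHom.toMonoidHom := by
    intro g hg
    rcases List.mem_append.mp hg with h | h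
    · exact p.sigs_Im g h
    · rw [List.mem_singleton.mp h]; exact ⟨hv0, h0⟩
  have hle : M24 ≤ p.Im := by
    rw [← M24_eq_closure, Subgroup.closure_le]
    have h := slp_full
    split at h
    · next out hout =>
      have ok : ∀ g ∈ [threeGens.getD 0 (0, 0), threeGens.getD 1 (0, 0), threeGens.getD 2 (0, 0)], toP g ∈ p.Im :=
        fun g hg => (slpRun_sound _ _ _ hout hbase g (by simpa using List.all_eq_true.mp h g hg)).2
      rintro g (rfl | rfl | rfl)
      · rw [← toP_transl]; exact ok _ (by simp)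
      · rw [← toP_inv]; exact ok _ (by simp)
      · rw [← toP_twist]; exact ok _ (by simp)
    · exact absurd h (by simp)
  intro g
  obtain ⟨y, hy, e⟩ := hle g.2
  obtain ⟨n, rfl⟩ := hy
  exact ⟨n, Subtype.ext e⟩

end Fr

end Cfsg.Lib.ConwayType
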