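import Cfsg.Agent.S0051
import Cfsg.Agent.ConwayType.MathieuLocal.Surj

/-!
A two-subgroup of the normalizer meeting the eleven-dimensional group trivially, and a complement.
-/

set_option autoImplicit false
set_option maxRecDepth 100000
set_option maxHeartbeats 1000000
set_option linter.unusedSectionVars false
set_option linter.style.haveILetI false

namespace Cfsg.Lib.ConwayType

open Subgroup Cfsg.Lib.Golay Cfsg.Lib.ConwayType.Code
open Cfsg.Lib.PermCert (PP Level valid perm check size topGens grp card_grp)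

universe u

variable {G : Type u} [Group G] [Finite G] {z : G}

namespace Local

theorem conj_closure {H : Type*} [Group H] {S : Set H} {g : H} (h : ∀ s ∈ S, g * s * g⁻¹ ∈ closure S) :
    ∀ x ∈ closure S, g * x * g⁻¹ ∈ closure S := by
  intro x hx
  induction hx using Subgroup.closure_induction with
  | mem x hx => exact h x hx
  | one => simp
  | mul a b _ _ ha hb => simpa [mul_assoc] using mul_mem ha hb
  | inv a _ ha => simpa [mul_assoc] using inv_mem ha

theorem card_closure_insert {H : Type*} [Group H] [Finite H] {S : Set H} {g : H} (hg : g * g = 1)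
    (h : ∀ s ∈ S, g * s * g⁻¹ ∈ closure S) : Nat.card ↥(closure (insert g S)) ≤ 2 * Nat.card ↥(closure S) := by
  have hc := conj_closure h
  have hgi : g⁻¹ = g := inv_eq_of_mul_eq_one_right hg
  have key : ∀ x ∈ closure (insert g S), ∃ y ∈ closure S, x = y ∨ x = y * g := by
    intro x hx
    induction hx using Subgroup.closure_induction with
    | mem x hx =>
      rcases hx with rfl | hx
      · exact ⟨1, one_mem _, Or.inr (one_mul x).symm⟩
      · exact ⟨x, subset_closure hx, Or.inl rfl⟩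
    | one => exact ⟨1, one_mem _, Or.inl rfl⟩
    | mul a b _ _ ha hb =>
      obtain ⟨u, hu, ea⟩ := ha
      obtain ⟨v, hv, eb⟩ := hb
      rcases ea with rfl | rfl <;> rcases eb with rfl | rfl
      · exact ⟨a * b, mul_mem hu hv, Or.inl rfl⟩
      · exact ⟨a * v, mul_mem hu hv, Or.inr (mul_assoc a v g).symm⟩
      · exact ⟨u * (g * b * g⁻¹), mul_mem hu (hc b hv), Or.inr (by group)⟩
      · refine ⟨u * (g * v * g⁻¹), mul_mem hu (hc v hv), Or.inl ?_⟩
        rw [hgi]; group
    | inv a _ ha =>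
      obtain ⟨u, hu, ea⟩ := ha
      rcases ea with rfl | rfl
      · exact ⟨_, inv_mem hu, Or.inl rfl⟩
      · exact ⟨g⁻¹ * u⁻¹ * g, by rw [hgi]; simpa [hgi] using hc _ (inv_mem hu), Or.inr (by
          rw [mul_assoc _ g g, hg, mul_one, mul_inv_rev])⟩
  have hsub : closure S ≤ closure (insert g S) := Subgroup.closure_mono (Set.subset_insert _ _)
  have hgm : g ∈ closure (insert g S) := subset_closure (Set.mem_insert _ _)
  let f : Bool × ↥(closure S) → ↥(closure (insert g S)) := fun u =>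
    ⟨(u.2 : H) * (bif u.1 then g else 1), mul_mem (hsub u.2.2) (by cases u.1; exacts [one_mem _, hgm])⟩
  have hf : Function.Surjective f := fun ⟨x, hx⟩ => by
    obtain ⟨y, hy, e | e⟩ := key x hx
    · exact ⟨(false, ⟨y, hy⟩), Subtype.ext (by simpa [f] using e.symm)⟩
    · exact ⟨(true, ⟨y, hy⟩), Subtype.ext (by simpa [f] using e.symm)⟩
  refine le_of_le_of_eq (Nat.card_le_card_of_surjective f hf) ?_
  rw [Nat.card_prod, Nat.card_eq_fintype_card (α := Bool), Fintype.card_bool]

theorem two_ok : check 24 twoChain = true ∧ size twoChain = 1024 ∧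
    (match slpRun [sigs.getD 2 (0, 0), sigs.getD 3 (0, 0), sigs.getD 4 (0, 0), sigs.getD 5 (0, 0), sigs.getD 6 (0, 0),
        sigs.getD 7 (0, 0), sigs.getD 0 (0, 0), sigs.getD 8 (0, 0), sigs.getD 9 (0, 0)] twoSteps with
      | some out => (topGens twoChain).all fun g => decide (g ∈ out)
      | none => false) = true := by decide +kernel

/-- The word of the central element of the dihedral group. -/
def wd8 : List (ℕ × ℕ) := wa ++ wb ++ wa ++ wb

theorem dih_ok : wa.all okS = true ∧ wb.all okS = true ∧ wd8.all okS = true ∧ sameAct (wa ++ wa) [] = true ∧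
    sameAct (wb ++ wb) [] = true ∧ sameAct (wd8 ++ wd8) [] = true ∧ sameAct (wb ++ wd8 ++ wb) wd8 = true ∧
    sameAct (wa ++ wd8 ++ wa) wd8 = true ∧ sameAct (wa ++ wb ++ wa) (wd8 ++ wb) = true ∧
    signOK [(4, 8), (64, 128), (4, 128), (8, 64)] wa 128 = true ∧ signOK [(2, 8), (32, 128)] wb 32 = true ∧
    (act [(4, 8), (64, 128), (4, 128), (8, 64)].reverse 128).testBit 7 = false ∧
    (act [(2, 8), (32, 128)].reverse 32).testBit 7 = false ∧ act wa 128 = 128 ∧ act wb 32 = 32 := by decide +kernel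

end Local

namespace Fr

open Local

variable (p : Fr z)

theorem exists_sign_q {x : G} {w : ℕ} (hx : p.Lift x w) (hw : w ∈ [32, 64, 128]) :
    ∃ b, p.q * p.rof x * p.q⁻¹ = p.zp b * (x * p.rof x) := by
  obtain ⟨hW, hq⟩ := U'_facts w hw
  obtain ⟨hR, hβ, hrr⟩ := hx.rof_R hW hq
  obtain ⟨y, hy⟩ : ∃ y, y = p.q * (p.rof x * p.q * (p.rof x)⁻¹) := ⟨_, rfl⟩
  have hyQ : y ∈ p.Q := hy ▸ mul_mem p.hq (p.toCtx.norm hR.2 p.hq)
  have hyπ : p.π y = w := by
    rw [hy, p.π_mul _ p.hq _ (p.toCtx.norm hR.2 p.hq), p.toCtx.act hR.2 p.hq, p.πq, p.toPt.m_rho hR 16 (by norm_num),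
      hβ]
    exact xor_eq_zero'.mp (conj_q_code w (by
      simp only [List.mem_cons, List.not_mem_nil, or_false] at hw ⊢; tauto))
  have key : p.q * p.rof x * p.q⁻¹ = y * p.rof x := by
    rw [hy, p.toQt.qinv, inv_eq_of_mul_eq_one_right hrr]
    calc p.q * p.rof x * p.q = p.q * p.rof x * p.q * (p.rof x * p.rof x) := by rw [hrr, mul_one]
      _ = _ := by group
  rcases p.toCtx.pi_eq hyQ hx.1 (hyπ.trans hx.2.symm) with e | e
  · exact ⟨false, by rw [key, e]; simp [Pt.zp]⟩
  · exact ⟨true, by rw [key, e, mul_assoc]; rfl⟩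

theorem rof_mul {x y : G} {v w : ℕ} (hx : p.Lift x v) (hy : p.Lift y w) (hv : v ∈ [32, 64, 128])
    (hw : w ∈ [32, 64, 128]) : p.rof (x * y) = p.rof x * p.rof y := by
  obtain ⟨hV, hqv⟩ := U'_facts v hv
  obtain ⟨hW, hqw⟩ := U'_facts w hw
  have ho : ∀ v ∈ [32, 64, 128], ∀ w ∈ [32, 64, 128], pB v w = false := by decide +kernel
  have c1 := hx.comm hy (ho v hv w hw)
  have c3 := hy.comm_rof hx hW hV hqv (ho w hw v hv)
  calc p.rof (x * y) = x * y * (p.toQt.qc * x * p.toQt.qc) * (p.toQt.qc * y * p.toQt.qc) := by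
        rw [rof]
        calc x * y * p.toQt.qc * (x * y) * p.toQt.qc
            = x * y * (p.toQt.qc * x * 1 * y * p.toQt.qc) := by group
          _ = x * y * (p.toQt.qc * x * (p.toQt.qc * p.toQt.qc) * y * p.toQt.qc) := by rw [p.toQt.qcqc]
          _ = _ := by group
    _ = x * (y * x) * p.rof x * (y * p.rof y) := by rw [hx.qc_conj hqv, hy.qc_conj hqw]; group
    _ = x * x * (y * p.rof x) * (y * p.rof y) := by rw [c1.eq.symm]; group
    _ = _ := by
      rw [c3.eq, hx.sq hqv]
      calc 1 * (p.rof x * y) * (y * p.rof y) = p.rof x * (y * y) * p.rof y := by group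
        _ = _ := by rw [hy.sq hqw, mul_one]

/-- The complement has a two-subgroup of the largest order. -/
theorem exists_two : ∃ Y : Subgroup G, Nat.card Y ≤ 1024 ∧ ∃ hY : Y ≤ normalizer (p.Ag : Set G),
    (grp 24 twoChain).map permHom.toMonoidHom ≤
      ((Y.subgroupOf (normalizer (p.Ag : Set G))).map p.toM24).map M24.subtype := by
  classical
  obtain ⟨oa, ob, od, aa, bb', dd, bd, ad, ab, sa128, sb32, ta, tb, fa, fb⟩ := dih_ok
  set A := p.la with hA
  set B := p.lb with hB
  set D := p.toQt.Lf (el wd8) with hD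
  obtain ⟨LA, -⟩ := p.toQt.Lf_spec (el_mem oa)
  obtain ⟨LB, -⟩ := p.toQt.Lf_spec (el_mem ob)
  obtain ⟨LD, -⟩ := p.toQt.Lf_spec (el_mem od)
  have cAc : Commute A p.toQt.qc := LA.2.2
  have cBc : Commute B p.toQt.qc := LB.2.2
  have cAs : Commute A p.s := LA.1.2
  have cBs : Commute B p.s := LB.1.2
  have sq : ∀ {g : List (ℕ × ℕ)}, g.all okS = true → sameAct (g ++ g) [] = true →
      p.toQt.Lf (el g) * p.toQt.Lf (el g) = 1 := fun {g} o e => by
    rw [← p.toQt.Lf_mul (el_mem o) (el_mem o), ← el_append, el_eq e]; exact p.toQt.Lf_one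
  have A2 : A * A = 1 := sq oa aa
  have B2 : B * B = 1 := sq ob bb'
  have D2 : D * D = 1 := sq od dd
  have Ai : A⁻¹ = A := inv_eq_of_mul_eq_one_right A2
  have Bi : B⁻¹ = B := inv_eq_of_mul_eq_one_right B2
  have BD : B * D * B⁻¹ = D := by
    rw [Bi, hB, lb, hD, ← p.toQt.Lf_mul (el_mem ob) (el_mem od),
      ← p.toQt.Lf_mul (mul_mem (el_mem ob) (el_mem od)) (el_mem ob), ← el_append, ← el_append, el_eq bd]
  have AD : A * D * A⁻¹ = D := by
    rw [Ai, hA, la, hD, ← p.toQt.Lf_mul (el_mem oa) (el_mem od),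
      ← p.toQt.Lf_mul (mul_mem (el_mem oa) (el_mem od)) (el_mem oa), ← el_append, ← el_append, el_eq ad]
  have AB : A * B * A⁻¹ = D * B := by
    rw [Ai, hA, hB, la, lb, hD, ← p.toQt.Lf_mul (el_mem oa) (el_mem ob),
      ← p.toQt.Lf_mul (mul_mem (el_mem oa) (el_mem ob)) (el_mem oa), ← p.toQt.Lf_mul (el_mem od) (el_mem ob),
      ← el_append, ← el_append, ← el_append, el_eq ab]
  have Ddef : D = A * B * (A * B) := by
    rw [hD, hA, hB, la, lb, wd8, ← p.toQt.Lf_mul (el_mem oa) (el_mem ob),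
      ← p.toQt.Lf_mul (mul_mem (el_mem oa) (el_mem ob)) (mul_mem (el_mem oa) (el_mem ob)), ← el_append, ← el_append]
    simp [List.append_assoc]
  -- the images of the lifts
  have L32 := p.lift32
  have L64 := p.lift64
  have L128 := p.lift128
  have c1 : Commute p.x32 p.x64 := L32.comm L64 (by decide +kernel)
  have c2 : Commute p.x64 p.x128 := L64.comm L128 (by decide +kernel)
  have a32 : A * p.x32 * A⁻¹ = p.x32 * p.x64 := by
    rw [x64, ← mul_assoc, L32.sq (by decide), one_mul]
  have a64 : A * p.x64 * A⁻¹ = p.x64 := by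
    conv_lhs => rw [x64]
    calc A * (p.x32 * (A * p.x32 * A⁻¹)) * A⁻¹ = A * p.x32 * A⁻¹ * (A * A * p.x32 * (A * A)⁻¹) := by group
      _ = p.x32 * p.x64 * p.x32 := by rw [A2, inv_one, mul_one, one_mul, a32]
      _ = _ := by rw [mul_assoc, ← c1.eq, ← mul_assoc, L32.sq (by decide), one_mul]
  have a128 : A * p.x128 * A⁻¹ = p.x128 := by
    have e := p.toQt.conj_Fb (el_mem oa) ((cd_el (okP_of_okS oa) (by norm_num)).trans fa) L128.1 L128.2
    rw [(p.sign sa128).trans ta, show p.zp false = 1 from rfl, one_mul] at e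
    exact e
  have b32 : B * p.x32 * B⁻¹ = p.x32 := by
    have e := p.toQt.conj_Fb (el_mem ob) ((cd_el (okP_of_okS ob) (by norm_num)).trans fb) L32.1 L32.2
    rw [(p.sign sb32).trans tb, show p.zp false = 1 from rfl, one_mul] at e
    exact e
  have b64 : B * p.x64 * B⁻¹ = p.x64 * p.x128 := by
    rw [x128, ← mul_assoc, L64.sq (by decide), one_mul]
  have b128 : B * p.x128 * B⁻¹ = p.x128 := by
    conv_lhs => rw [x128]
    calc B * (p.x64 * (B * p.x64 * B⁻¹)) * B⁻¹ = B * p.x64 * B⁻¹ * (B * B * p.x64 * (B * B)⁻¹) := by group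
      _ = p.x64 * p.x128 * p.x64 := by rw [B2, inv_one, mul_one, one_mul, b64]
      _ = _ := by rw [mul_assoc, ← c2.eq, ← mul_assoc, L64.sq (by decide), one_mul]
  -- their commutators
  have hrof : ∀ {t x : G}, Commute t p.toQt.qc → p.rof (t * x * t⁻¹) = t * p.rof x * t⁻¹ := fun {t x} ht => by
    have hc : t⁻¹ * p.toQt.qc * t = p.toQt.qc := by rw [mul_assoc, ← ht.eq, inv_mul_cancel_left]
    calc p.rof (t * x * t⁻¹) = t * (x * (t⁻¹ * p.toQt.qc * t) * x * (t⁻¹ * p.toQt.qc * t)) * t⁻¹ := by rw [rof]; group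
      _ = _ := by rw [hc, rof]
  set R32 := p.rof p.x32 with hR32
  set R64 := p.rof p.x64 with hR64
  set R128 := p.rof p.x128 with hR128
  have ar32 : A * R32 * A⁻¹ = R32 * R64 := by
    rw [hR32, ← hrof cAc, a32, p.rof_mul L32 L64 (by decide) (by decide)]
  have ar64 : A * R64 * A⁻¹ = R64 := by rw [hR64, ← hrof cAc, a64]
  have ar128 : A * R128 * A⁻¹ = R128 := by rw [hR128, ← hrof cAc, a128]
  have br32 : B * R32 * B⁻¹ = R32 := by rw [hR32, ← hrof cBc, b32]
  have br64 : B * R64 * B⁻¹ = R64 * R128 := by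
    rw [hR64, ← hrof cBc, b64, p.rof_mul L64 L128 (by decide) (by decide)]
  have br128 : B * R128 * B⁻¹ = R128 := by rw [hR128, ← hrof cBc, b128]
  -- the signs
  obtain ⟨c32, q32⟩ := p.exists_sign_q L32 (by decide)
  obtain ⟨c64, q64⟩ := p.exists_sign_q L64 (by decide)
  obtain ⟨c128, q128⟩ := p.exists_sign_q L128 (by decide)
  rw [← hR32] at q32
  rw [← hR64] at q64
  rw [← hR128] at q128
  have hzc : ∀ {g : G}, Commute g z → ∀ (b : Bool), g * p.zp b * g⁻¹ = p.zp b := fun {g} hg b => by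
    rw [(p.toPt.zp_comm hg b).eq, mul_inv_cancel_right]
  have W' : ∀ w ∈ [32, 64, 128], w ∈ W ∧ qB w = false := U'_facts
  have orth : ∀ v ∈ [32, 64, 128], ∀ w ∈ [32, 64, 128], pB v w = false := by decide +kernel
  have step : ∀ {t x y : G} {rx ry : G} {cx cy : Bool} {v w : ℕ}, Commute t z → Commute t p.q →
      p.Lift x v → p.Lift y w → v ∈ [32, 64, 128] → w ∈ [32, 64, 128] → rx = p.rof x → ry = p.rof y →
      t * x * t⁻¹ = x * y → t * rx * t⁻¹ = rx * ry → p.q * rx * p.q⁻¹ = p.zp cx * (x * rx) →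
      p.q * ry * p.q⁻¹ = p.zp cy * (y * ry) → cy = false := by
    intro t x y rx ry cx cy v w htz htq hx hy hv hw erx ery ex er ecx ecy
    have h1 : t * (p.q * rx * p.q⁻¹) * t⁻¹ = t * (p.zp cx * (x * rx)) * t⁻¹ := by rw [ecx]
    rw [show t * (p.q * rx * p.q⁻¹) * t⁻¹ = t * p.q * t⁻¹ * (t * rx * t⁻¹) * (t * p.q * t⁻¹)⁻¹ by group,
      htq.eq, mul_inv_cancel_right, er,
      show p.q * (rx * ry) * p.q⁻¹ = p.q * rx * p.q⁻¹ * (p.q * ry * p.q⁻¹) by group, ecx, ecy,
      show t * (p.zp cx * (x * rx)) * t⁻¹ = t * p.zp cx * t⁻¹ * ((t * x * t⁻¹) * (t * rx * t⁻¹)) by group,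
      hzc htz, ex, er] at h1
    have cyr : Commute y rx := erx ▸ hy.comm_rof hx (W' w hw).1 (W' v hv).1 (W' v hv).2 (orth w hw v hv)
    have hT : Commute (x * rx) z := hx.commute_z.mul_left (erx ▸ (hx.rof_R (W' v hv).1 (W' v hv).2).1.2)
    have h2 : p.zp cx * (p.zp cy * (x * y * (rx * ry))) = p.zp cx * (x * y * (rx * ry)) := by
      rw [← h1]
      calc p.zp cx * (p.zp cy * (x * y * (rx * ry))) = p.zp cx * (p.zp cy * (x * (y * rx) * ry)) := by group
        _ = p.zp cx * (p.zp cy * (x * rx) * (y * ry)) := by rw [cyr.eq]; group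
        _ = _ := by rw [← (p.toPt.zp_comm hT cy).eq]; group
    have h3 := mul_left_cancel h2
    rw [mul_eq_right] at h3
    exact p.toPt.zp_inj (h3.trans rfl)
  have e64 : c64 = false := step LA.1.1 LA.2.1 L32 L64 (by decide) (by decide) hR32 hR64 a32 ar32 q32 q64
  subst e64
  have e128 : c128 = false := step LB.1.1 LB.2.1 L64 L128 (by decide) (by decide) hR64 hR128 b64 br64 q64 q128
  subst e128
  rw [show p.zp false = 1 from rfl, one_mul] at q64 q128
  -- the adjusted first commutator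
  set S' := (bif c32 then p.s else 1) with hS'
  have sT : ∀ {g : G}, Commute g p.s → Commute g S' := fun {g} h => by
    rw [hS']; cases c32
    exacts [Commute.one_right g, h]
  have S2 : S' * S' = 1 := by
    rw [hS']; cases c32
    exacts [one_mul 1, p.toPt.ss]
  set R' := R32 * S' with hR'
  have T32 : p.T R32 := p.toPt.R_T (L32.rof_R (W' 32 (by decide)).1 (W' 32 (by decide)).2).1
  have qS : p.q * S' * p.q⁻¹ = p.zp c32 * S' := by
    rw [hS']; cases c32
    · simp [Pt.zp]
    · exact p.toQt.q_conj_s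
  have qR' : p.q * R' * p.q⁻¹ = p.x32 * R' := by
    rw [hR', show p.q * (R32 * S') * p.q⁻¹ = p.q * R32 * p.q⁻¹ * (p.q * S' * p.q⁻¹) by group, q32, qS]
    have hT : Commute (p.x32 * R32) z := L32.commute_z.mul_left T32.1
    calc p.zp c32 * (p.x32 * R32) * (p.zp c32 * S') = p.zp c32 * (p.x32 * R32 * p.zp c32) * S' := by group
      _ = p.zp c32 * p.zp c32 * (p.x32 * R32 * S') := by rw [(p.toPt.zp_comm hT c32).eq]; group
      _ = _ := by rw [p.toPt.zp_mul, Bool.xor_self, show p.zp false = 1 from rfl]; group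
  have tS : ∀ {t : G}, Commute t p.s → t * S' * t⁻¹ = S' := fun {t} h => by
    rw [(sT h).eq, mul_inv_cancel_right]
  have aR' : A * R' * A⁻¹ = R' * R64 := by
    have hs64 : Commute R64 S' := sT (p.toPt.R_T (L64.rof_R (W' 64 (by decide)).1 (W' 64 (by decide)).2).1).2
    rw [hR', show A * (R32 * S') * A⁻¹ = A * R32 * A⁻¹ * (A * S' * A⁻¹) by group, ar32, tS cAs, mul_assoc, hs64.eq,
      ← mul_assoc]
  have bR' : B * R' * B⁻¹ = R' := by
    rw [hR', show B * (R32 * S') * B⁻¹ = B * R32 * B⁻¹ * (B * S' * B⁻¹) by group, br32, tS cBs]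
  -- six commuting involutions
  have sq32 : R' * R' = 1 := by
    rw [hR', (sT T32.2).symm.mul_mul_mul_comm, S2, mul_one]
    exact (L32.rof_R (W' 32 (by decide)).1 (W' 32 (by decide)).2).2.2
  have trivC : ∀ {g a : G}, Commute g a → g * a * g⁻¹ = a := fun {g a} h => by rw [h.eq, mul_inv_cancel_right]
  have cXX : ∀ {x y : G} {v w : ℕ}, p.Lift x v → p.Lift y w → v ∈ [32, 64, 128] → w ∈ [32, 64, 128] → Commute x y :=
    fun hx hy hv hw => hx.comm hy (orth _ hv _ hw)
  have cXR : ∀ {x y : G} {v w : ℕ}, p.Lift x v → p.Lift y w → v ∈ [32, 64, 128] → w ∈ [32, 64, 128] →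
      Commute x (p.rof y) := fun hx hy hv hw =>
    hx.comm_rof hy (W' _ hv).1 (W' _ hw).1 (W' _ hw).2 (orth _ hv _ hw)
  have cRR : ∀ {x y : G} {v w : ℕ}, p.Lift x v → p.Lift y w → v ∈ [32, 64, 128] → w ∈ [32, 64, 128] →
      Commute (p.rof x) (p.rof y) := fun hx hy hv hw =>
    hx.rof_comm hy (W' _ hv).1 (W' _ hw).1 (W' _ hv).2 (W' _ hw).2 (orth _ hv _ hw)
  have As : ∀ {x : G} {v : ℕ}, p.Lift x v → v ∈ [32, 64, 128] → Commute x S' :=
    fun hx hv => sT (hx.memA (W' _ hv).1).2
  have Rs : ∀ {x : G} {v : ℕ}, p.Lift x v → v ∈ [32, 64, 128] → Commute (p.rof x) S' :=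
    fun hx hv => sT (p.toPt.R_T (hx.rof_R (W' _ hv).1 (W' _ hv).2).1).2
  let S1' : Set G := {p.x32}
  let S2' : Set G := insert p.x64 S1'
  let S3' : Set G := insert p.x128 S2'
  let S4' : Set G := insert R' S3'
  let S5' : Set G := insert R64 S4'
  let S6' : Set G := insert R128 S5'
  let S7' : Set G := insert p.q S6'
  let S8' : Set G := insert D S7'
  let S9' : Set G := insert B S8'
  let S10' : Set G := insert A S9'
  have mem6 : ∀ {g : G}, g ∈ S6' → g = R128 ∨ g = R64 ∨ g = R' ∨ g = p.x128 ∨ g = p.x64 ∨ g = p.x32 := fun {g} h => h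
  have in6 : p.x32 ∈ closure S6' ∧ p.x64 ∈ closure S6' ∧ p.x128 ∈ closure S6' ∧ R' ∈ closure S6' ∧
      R64 ∈ closure S6' ∧ R128 ∈ closure S6' :=
    ⟨subset_closure (by simp [S6', S5', S4', S3', S2', S1']), subset_closure (by simp [S6', S5', S4', S3', S2', S1']),
      subset_closure (by simp [S6', S5', S4', S3', S2', S1']), subset_closure (by simp [S6', S5', S4', S3', S2', S1']),
      subset_closure (by simp [S6', S5', S4', S3', S2', S1']), subset_closure (by simp [S6', S5', S4', S3', S2', S1'])⟩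
  obtain ⟨i1, i2, i3, i4, i5, i6⟩ := in6
  have hq6 : ∀ g ∈ S6', p.q * g * p.q⁻¹ ∈ closure S6' := by
    intro g hg
    rcases mem6 hg with e | e | e | e | e | e <;> rw [e]
    · rw [q128]; exact mul_mem i3 i6
    · rw [q64]; exact mul_mem i2 i5
    · rw [qR']; exact mul_mem i1 i4
    · rw [trivC (L128.comm_q (W' 128 (by decide)).1).symm]; exact i3
    · rw [trivC (L64.comm_q (W' 64 (by decide)).1).symm]; exact i2
    · rw [trivC (L32.comm_q (W' 32 (by decide)).1).symm]; exact i1
  have ha6 : ∀ g ∈ S6', A * g * A⁻¹ ∈ closure S6' := by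
    intro g hg
    rcases mem6 hg with e | e | e | e | e | e <;> rw [e]
    · rw [ar128]; exact i6
    · rw [ar64]; exact i5
    · rw [aR']; exact mul_mem i4 i5
    · rw [a128]; exact i3
    · rw [a64]; exact i2
    · rw [a32]; exact mul_mem i1 i2
  have hb6 : ∀ g ∈ S6', B * g * B⁻¹ ∈ closure S6' := by
    intro g hg
    rcases mem6 hg with e | e | e | e | e | e <;> rw [e]
    · rw [br128]; exact i6
    · rw [br64]; exact mul_mem i5 i6
    · rw [bR']; exact i4
    · rw [b128]; exact i3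
    · rw [b64]; exact mul_mem i2 i3
    · rw [b32]; exact i1
  have hd6 : ∀ g ∈ S6', D * g * D⁻¹ ∈ closure S6' := fun g hg => by
    rw [Ddef, show A * B * (A * B) * g * (A * B * (A * B))⁻¹ = A * (B * (A * (B * g * B⁻¹) * A⁻¹) * B⁻¹) * A⁻¹ by group]
    exact conj_closure ha6 _ (conj_closure hb6 _ (conj_closure ha6 _ (hb6 g hg)))
  have le67 : closure S6' ≤ closure S7' := Subgroup.closure_mono (Set.subset_insert _ _)
  have le78 : closure S7' ≤ closure S8' := Subgroup.closure_mono (Set.subset_insert _ _)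
  have le89 : closure S8' ≤ closure S9' := Subgroup.closure_mono (Set.subset_insert _ _)
  have h7 : ∀ {t : G}, Commute t p.q → (∀ g ∈ S6', t * g * t⁻¹ ∈ closure S6') →
      ∀ g ∈ S7', t * g * t⁻¹ ∈ closure S7' := fun {t} ht h g hg => by
    rcases hg with rfl | hg
    · rw [trivC ht]; exact subset_closure (Set.mem_insert _ _)
    · exact le67 (h g hg)
  have k1 : Nat.card ↥(closure S1') ≤ 2 := by
    have h := card_closure_insert (S := (∅ : Set G)) (L32.sq (W' 32 (by decide)).2) (fun s hs => absurd hs (by simp))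
    rw [Subgroup.closure_empty, Subgroup.card_bot, insert_empty_eq] at h
    exact h
  have sqR : ∀ {x : G} {v : ℕ}, p.Lift x v → v ∈ [32, 64, 128] → p.rof x * p.rof x = 1 :=
    fun hx hv => (hx.rof_R (W' _ hv).1 (W' _ hv).2).2.2
  have k2 : Nat.card ↥(closure S2') ≤ 2 * Nat.card ↥(closure S1') :=
    card_closure_insert (L64.sq (W' 64 (by decide)).2) fun g hg => by
      obtain rfl : g = p.x32 := hg
      rw [trivC (cXX L64 L32 (by decide) (by decide))]; exact subset_closure (Set.mem_singleton _)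
  have k3 : Nat.card ↥(closure S3') ≤ 2 * Nat.card ↥(closure S2') :=
    card_closure_insert (L128.sq (W' 128 (by decide)).2) fun g hg => by
      rw [trivC (?_ : Commute p.x128 g)]
      · exact subset_closure hg
      · rcases hg with rfl | rfl
        exacts [cXX L128 L64 (by decide) (by decide), cXX L128 L32 (by decide) (by decide)]
  have k4 : Nat.card ↥(closure S4') ≤ 2 * Nat.card ↥(closure S3') :=
    card_closure_insert sq32 fun g hg => by
      rw [trivC (?_ : Commute R' g)]
      · exact subset_closure hg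
      · rcases hg with rfl | rfl | rfl
        exacts [((cXR L128 L32 (by decide) (by decide)).mul_right (As L128 (by decide))).symm,
          ((cXR L64 L32 (by decide) (by decide)).mul_right (As L64 (by decide))).symm,
          ((cXR L32 L32 (by decide) (by decide)).mul_right (As L32 (by decide))).symm]
  have k5 : Nat.card ↥(closure S5') ≤ 2 * Nat.card ↥(closure S4') :=
    card_closure_insert (sqR L64 (by decide)) fun g hg => by
      rw [trivC (?_ : Commute R64 g)]
      · exact subset_closure hg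
      · rcases hg with rfl | rfl | rfl | rfl
        exacts [(cRR L64 L32 (by decide) (by decide)).mul_right (Rs L64 (by decide)),
          (cXR L128 L64 (by decide) (by decide)).symm, (cXR L64 L64 (by decide) (by decide)).symm,
          (cXR L32 L64 (by decide) (by decide)).symm]
  have k6 : Nat.card ↥(closure S6') ≤ 2 * Nat.card ↥(closure S5') :=
    card_closure_insert (sqR L128 (by decide)) fun g hg => by
      rw [trivC (?_ : Commute R128 g)]
      · exact subset_closure hg
      · rcases hg with rfl | rfl | rfl | rfl | rfl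
        exacts [cRR L128 L64 (by decide) (by decide),
          (cRR L128 L32 (by decide) (by decide)).mul_right (Rs L128 (by decide)),
          (cXR L128 L128 (by decide) (by decide)).symm, (cXR L64 L128 (by decide) (by decide)).symm,
          (cXR L32 L128 (by decide) (by decide)).symm]
  have k7 : Nat.card ↥(closure S7') ≤ 2 * Nat.card ↥(closure S6') := card_closure_insert p.toQt.qq hq6
  have k8 : Nat.card ↥(closure S8') ≤ 2 * Nat.card ↥(closure S7') := card_closure_insert D2 (h7 LD.2.1 hd6)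
  have k9 : Nat.card ↥(closure S9') ≤ 2 * Nat.card ↥(closure S8') := card_closure_insert B2 fun g hg => by
    rcases hg with rfl | hg
    · rw [BD]; exact subset_closure (Set.mem_insert _ _)
    · exact le78 (h7 LB.2.1 hb6 g hg)
  have k10 : Nat.card ↥(closure S10') ≤ 2 * Nat.card ↥(closure S9') := card_closure_insert A2 fun g hg => by
    rcases hg with rfl | rfl | hg
    · rw [AB]
      exact mul_mem (subset_closure (Set.mem_insert_of_mem _ (Set.mem_insert _ _))) (subset_closure (Set.mem_insert _ _))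
    · rw [AD]; exact subset_closure (Set.mem_insert_of_mem _ (Set.mem_insert _ _))
    · exact le89 (le78 (h7 LA.2.1 ha6 g hg))
  -- membership in the normalizer
  have hn : ∀ k < 11, p.nE.getD k 1 ∈ normalizer (p.Ag : Set G) := p.nE_mem
  have nS : S' ∈ normalizer (p.Ag : Set G) := by
    rw [hS']; cases c32
    exacts [one_mem _, p.Ag.le_normalizer (p.ev_s ▸ p.ev_mem (by norm_num))]
  have nA : A ∈ normalizer (p.Ag : Set G) := hn 8 (by norm_num)
  have nB : B ∈ normalizer (p.Ag : Set G) := hn 9 (by norm_num)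
  have hY : closure S10' ≤ normalizer (p.Ag : Set G) := (Subgroup.closure_le _).mpr fun g hg => by
    rcases hg with rfl | rfl | rfl | rfl | rfl | rfl | rfl | rfl | rfl | rfl
    exacts [nA, nB, Ddef ▸ mul_mem (mul_mem nA nB) (mul_mem nA nB), hn 0 (by norm_num), hn 7 (by norm_num),
      hn 6 (by norm_num), mul_mem (hn 5 (by norm_num)) nS, hn 4 (by norm_num), hn 3 (by norm_num), hn 2 (by norm_num)]
  refine ⟨closure S10', by omega, hY, ?_⟩
  rw [Subgroup.map_le_iff_le_comap, grp, Subgroup.closure_le]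
  rintro _ ⟨g, hg, rfl⟩
  have h := two_ok.2.2
  set K := ((((closure S10').subgroupOf (normalizer (p.Ag : Set G))).map p.toM24).map M24.subtype).comap
    permHom.toMonoidHom
  have put : ∀ (k : ℕ), k < 11 → ∀ y ∈ closure S10', p.Rel y (toP (sigs.getD k (0, 0))) →
      valid 24 (sigs.getD k (0, 0)) = true ∧ perm 24 (sigs.getD k (0, 0)) ∈ K := fun k hk y hy hr =>
    ⟨(sig_ok k hk).1, ⟨p.toM24 ⟨y, hY hy⟩, ⟨⟨y, hY hy⟩, hy, rfl⟩, p.toM24_eq ⟨y, hY hy⟩ hr⟩⟩
  have m : ∀ {y : G}, y ∈ S10' → y ∈ closure S10' := fun hy => subset_closure hy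
  have hrel' : p.Rel R' (toP (sigs.getD 5 (0, 0))) := by
    have h5 := p.nE_rel 5 (by norm_num)
    have h1 : p.Rel S' 1 := ⟨one_mem _, fun x hx => ⟨x, hx, trivC (sT (p.ev_T x).2).symm, Or.inl rfl⟩⟩
    have := h5.mul h1
    rwa [mul_one] at this
  split at h
  · next out hout =>
    refine (slpRun_sound (K := K) _ _ _ hout ?_ g (by simpa using List.all_eq_true.mp h g hg)).2
    intro g' hg'
    simp only [List.mem_cons, List.not_mem_nil, or_false] at hg'
    rcases hg' with rfl | rfl | rfl | rfl | rfl | rfl | rfl | rfl | rfl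
    · exact put 2 (by norm_num) _ (m (by simp [S10', S9', S8', S7', S6', S5', S4', S3', S2', S1'] : p.x32 ∈ S10')) (p.nE_rel 2 (by norm_num))
    · exact put 3 (by norm_num) _ (m (by simp [S10', S9', S8', S7', S6', S5', S4', S3', S2', S1'] : p.x64 ∈ S10')) (p.nE_rel 3 (by norm_num))
    · exact put 4 (by norm_num) _ (m (by simp [S10', S9', S8', S7', S6', S5', S4', S3', S2', S1'] : p.x128 ∈ S10')) (p.nE_rel 4 (by norm_num))
    · exact put 5 (by norm_num) _ (m (by simp [S10', S9', S8', S7', S6', S5', S4', S3', S2', S1'] : R' ∈ S10')) hrel'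
    · exact put 6 (by norm_num) _ (m (by simp [S10', S9', S8', S7', S6', S5', S4', S3', S2', S1'] : R64 ∈ S10')) (p.nE_rel 6 (by norm_num))
    · exact put 7 (by norm_num) _ (m (by simp [S10', S9', S8', S7', S6', S5', S4', S3', S2', S1'] : R128 ∈ S10')) (p.nE_rel 7 (by norm_num))
    · exact put 0 (by norm_num) _ (m (by simp [S10', S9', S8', S7', S6', S5', S4', S3', S2', S1'] : p.q ∈ S10')) (p.nE_rel 0 (by norm_num))
    · exact put 8 (by norm_num) _ (m (by simp [S10', S9', S8', S7', S6', S5', S4', S3', S2', S1'] : A ∈ S10')) (p.nE_rel 8 (by norm_num))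
    · exact put 9 (by norm_num) _ (m (by simp [S10', S9', S8', S7', S6', S5', S4', S3', S2', S1'] : B ∈ S10')) (p.nE_rel 9 (by norm_num))
  · exact absurd h (by simp)

/-- The extension splits. -/
theorem exists_compl : ∃ K : Subgroup ↥(normalizer (p.Ag : Set G)),
    (p.Ag.subgroupOf (normalizer (p.Ag : Set G))).IsComplement' K := by
  classical
  obtain ⟨Y, hYc, hY, hle⟩ := p.exists_two
  set Y' := Y.subgroupOf (normalizer (p.Ag : Set G)) with hY'
  have hAc : Nat.card ↥(p.Ag.subgroupOf (normalizer (p.Ag : Set G))) = 2 ^ 11 := by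
    rw [Nat.card_congr (Subgroup.subgroupOfEquivOfLe p.Ag.le_normalizer).toEquiv, p.card_Ag]
  have hker := p.ker_toM24
  have hY'c : Nat.card ↥Y' ≤ 1024 := by
    rw [Nat.card_congr (Subgroup.subgroupOfEquivOfLe hY).toEquiv]; exact hYc
  have hbig : 1024 ≤ Nat.card ↥(Y'.map p.toM24) := by
    rw [Nat.card_congr (Subgroup.equivMapOfInjective (Y'.map p.toM24) M24.subtype M24.subtype_injective).toEquiv]
    refine le_trans (le_of_eq ?_) (Subgroup.card_le_of_le hle)
    rw [← Nat.card_congr (Subgroup.equivMapOfInjective (grp 24 twoChain) permHom.toMonoidHom permHom.injective).toEquiv,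
      card_grp two_ok.1, two_ok.2.1]
  let f : ↥Y' → ↥(Y'.map p.toM24) := fun y => ⟨p.toM24 y, ⟨y, y.2, rfl⟩⟩
  have hf : Function.Surjective f := fun ⟨_, y, hy, e⟩ => ⟨⟨y, hy⟩, Subtype.ext e⟩
  have hcard : Nat.card ↥(Y'.map p.toM24) ≤ Nat.card ↥Y' := Nat.card_le_card_of_surjective f hf
  have hinj : Function.Injective f :=
    ((Nat.bijective_iff_surjective_and_card f).mpr ⟨hf, by omega⟩).1
  have hinf : Y' ⊓ p.Ag.subgroupOf (normalizer (p.Ag : Set G)) = ⊥ := (Subgroup.eq_bot_iff_forall _).mpr fun y hy => by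
    obtain ⟨h1, h2⟩ := Subgroup.mem_inf.mp hy
    rw [← hker, MonoidHom.mem_ker] at h2
    exact congrArg Subtype.val (hinj (a₁ := ⟨y, h1⟩) (a₂ := 1) (Subtype.ext (h2.trans (map_one p.toM24).symm)))
  haveI hNn : (p.Ag.subgroupOf (normalizer (p.Ag : Set G))).Normal := Subgroup.normal_in_normalizer
  haveI : IsMulCommutative ↥(p.Ag.subgroupOf (normalizer (p.Ag : Set G))) :=
    ⟨⟨fun a b => Subtype.ext (Subtype.ext (by
      obtain ⟨x, -, ex⟩ := Subgroup.mem_subgroupOf.mp a.2
      obtain ⟨y, -, ey⟩ := Subgroup.mem_subgroupOf.mp b.2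
      simp only [Subgroup.coe_mul, ← ex, ← ey]
      exact (p.ev_comm x y).eq))⟩⟩
  set U := p.Ag.subgroupOf (normalizer (p.Ag : Set G)) ⊔ Y' with hU
  have hidx : U.index * 1024 = 244823040 := by
    have h1 := Subgroup.index_map_eq U p.toM24_surjective (hker ▸ le_sup_left)
    rw [← h1]
    have h2 : U.map p.toM24 = Y'.map p.toM24 := by
      rw [hU, Subgroup.map_sup, ← hker, (Subgroup.map_eq_bot_iff _).mpr le_rfl, bot_sup_eq]
    rw [h2, show 1024 = Nat.card ↥(Y'.map p.toM24) by omega, Subgroup.index_mul_card, card_M24]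
  refine Cfsg.Agent.S0051.result (p.Ag.subgroupOf (normalizer (p.Ag : Set G))) U le_sup_left ?_ Y' le_sup_right hinf rfl
  rw [hAc, show U.index = 239085 by omega]
  decide +kernel

end Fr

end Cfsg.Lib.ConwayType
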