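import Cfsg.Agent.ConwayType.MathieuLocal.Lift

/-!
The signs of the root elements on their fixed codes, and a normalisation of the coordinates.
-/

set_option autoImplicit false
set_option maxRecDepth 100000
set_option maxHeartbeats 1000000
set_option linter.unusedSectionVars false
set_option linter.style.haveILetI false

namespace Cfsg.Lib.ConwayType

open Subgroup Cfsg.Lib.ConwayType.Code
open scoped commutatorElement

universe u

variable {G : Type u} [Group G] [Finite G] {z : G}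

/-- The exchange of the bits three and seven. -/
def swapC (x : ℕ) : ℕ := Cfsg.Lib.Classical.OrthH1.lN 8 [1, 2, 4, 128, 16, 32, 64, 8] x

theorem swap_ok : ∀ x < 256, swapC x < 256 ∧ qB (swapC x) = qB x ∧ swapC (swapC x) = x := by decide +kernel

theorem exists_swapE : ∃ σ : O8, σ * σ = 1 ∧ ∀ x < 256, cd σ x = swapC x := by
  obtain ⟨g, hg⟩ := Cfsg.Lib.Classical.OrthH1.exists_iso qB e8 hq
    (im := [1, 2, 4, 128, 16, 32, 64, 8]) (im' := [1, 2, 4, 128, 16, 32, 64, 8])
    fun x hx => ⟨(swap_ok x hx).1, (swap_ok x hx).2.1, (swap_ok x hx).2.2, (swap_ok x hx).2.2⟩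
  have h : ∀ x < 256, cd g x = swapC x := fun x hx => by rw [cd, hg]; exact en_dec (swap_ok x hx).1
  refine ⟨g, cd_ext fun x hx => ?_, h⟩
  rw [cd_mul, h x hx, h _ (swap_ok x hx).1, (swap_ok x hx).2.2, cd_one hx]

theorem normal_map_conj {H : Type*} [Group H] (N : Subgroup H) [N.Normal] (h : H) :
    N.map (MulAut.conj h).toMonoidHom = N := by
  refine le_antisymm ?_ fun x hx => ?_
  · rintro _ ⟨x, hx, rfl⟩
    exact Subgroup.Normal.conj_mem inferInstance x hx h
  · exact ⟨h⁻¹ * x * h⁻¹⁻¹, Subgroup.Normal.conj_mem inferInstance x hx h⁻¹, by simp [mul_assoc]⟩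

/-- Normalised coordinates: the lift of the basic root element centralizes the lift of the code eight. -/
structure Fr (z : G) extends Qt z where
  sign8 : toQt.Fb (el w0) 8 = false

theorem w0_ok : w0.all okS = true := by decide +kernel

/-- The words used to compute the first sign. -/
def g1w : List (ℕ × ℕ) := [(2, 128), (2, 8)]

/-- The second factor. -/
def g2w : List (ℕ × ℕ) := [(2, 128), (2, 8), (2, 4)]

theorem sign_words : (g1w.all okS && g2w.all okS && sameAct (g1w ++ g2w) w0 && sameAct (g1w ++ g1w) [] &&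
    sameAct ([(4, 32)] ++ [(4, 32)].reverse) [] && sameAct ([(2, 64), (4, 32)] ++ [(2, 64), (4, 32)].reverse) [] &&
    sameAct (([(4, 32)] ++ g2w ++ [(4, 32)].reverse) ++
      ([(2, 64), (4, 32)] ++ g2w ++ [(2, 64), (4, 32)].reverse)) g2w &&
    ([(4, 32)] : List (ℕ × ℕ)).all okS && ([(2, 64), (4, 32)] : List (ℕ × ℕ)).all okS &&
    act g2w 136 == 136 && act g1w 136 == 136 && act [(4, 32)] 136 == 136 && act [(2, 64), (4, 32)] 136 == 136 &&
    (40 ^^^ act g1w 40 == 136) && pB 40 (act g1w 40)) = true := by decide +kernel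

namespace Qt

variable (p : Qt z)

/-- The sum of the two signs is one. -/
theorem sign136 : p.Fb (el w0) 136 = true := by
  have h := sign_words
  simp only [Bool.and_eq_true, beq_iff_eq] at h
  obtain ⟨⟨⟨⟨⟨⟨⟨⟨⟨⟨⟨⟨⟨⟨o1, o2⟩, e0⟩, e1⟩, r1⟩, r2⟩, e2⟩, oa⟩, ob⟩, f2⟩, f1⟩, fa⟩, fb⟩, hv⟩, hp⟩ := h
  have m1 := el_mem o1
  have m2 := el_mem o2
  have ma := el_mem oa
  have mb := el_mem ob
  have c1 : cd (el g1w) 136 = 136 := (cd_el (okP_of_okS o1) (by norm_num)).trans f1
  have c2 : cd (el g2w) 136 = 136 := (cd_el (okP_of_okS o2) (by norm_num)).trans f2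
  have ca : cd (el [(4, 32)]) 136 = 136 := (cd_el (okP_of_okS oa) (by norm_num)).trans fa
  have cb : cd (el [(2, 64), (4, 32)]) 136 = 136 := (cd_el (okP_of_okS ob) (by norm_num)).trans fb
  have h1 : p.Fb (el g1w) 136 = true := by
    have h2 := p.Fb_change m1 (by rw [← el_append]; exact (el_eq e1).trans rfl) (v := 40) (by norm_num)
    rw [cd_el (okP_of_okS o1) (by norm_num), hv, hp] at h2
    exact h2
  have conjfix : ∀ {k : O8}, cd k 136 = 136 → cd (k * el g2w * k⁻¹) 136 = 136 := fun {k} ck => by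
    have hi : cd k⁻¹ 136 = 136 := by
      conv_lhs => rw [← ck]
      exact cd_inv k (by norm_num)
    rw [cd_mul, cd_mul, hi, c2, ck]
  have hconj : ∀ {k : O8}, k ∈ S1 → cd k 136 = 136 → p.Fb (k * el g2w * k⁻¹) 136 = p.Fb (el g2w) 136 :=
    fun {k} mk ck => by
    conv_lhs => rw [← ck]
    exact p.Fb_conj mk m2 (by norm_num) c2
  have h3 : p.Fb (el g2w) 136 = false := by
    have he : el g2w = el [(4, 32)] * el g2w * (el [(4, 32)])⁻¹ *
        (el [(2, 64), (4, 32)] * el g2w * (el [(2, 64), (4, 32)])⁻¹) := by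
      rw [← el_rev r1, ← el_rev r2, ← el_append, ← el_append, ← el_append, ← el_append, ← el_append]
      exact (el_eq e2).symm
    conv_lhs => rw [he]
    rw [p.Fb_mul (mul_mem (mul_mem ma m2) (inv_mem ma)) (mul_mem (mul_mem mb m2) (inv_mem mb)) (by norm_num)
      (conjfix ca) (conjfix cb), hconj ma ca, hconj mb cb, Bool.xor_self]
  rw [← el_eq e0, el_append, p.Fb_mul m1 m2 (by norm_num) c1 c2, h1, h3]
  rfl

theorem fix_w0 : act w0 8 = 8 ∧ act w0 128 = 128 ∧ act w0 136 = 136 := by decide +kernel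

theorem exists_fr (p : Qt z) : Nonempty (Fr z) := by
  cases h8 : p.Fb (el w0) 8
  · exact ⟨{ toQt := p, sign8 := h8 }⟩
  have h128 : p.Fb (el w0) 128 = false := by
    have h := p.sign136
    rw [show (136 : ℕ) = 8 ^^^ 128 from rfl, p.Fb_add (el_mem w0_ok) (by norm_num) (by norm_num)
      ((cd_el (okP_of_okS w0_ok) (by norm_num)).trans fix_w0.1)
      ((cd_el (okP_of_okS w0_ok) (by norm_num)).trans fix_w0.2.1), h8] at h
    simpa using h
  obtain ⟨σ, hσσ, hσ⟩ := exists_swapE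
  have hσi : σ⁻¹ = σ := inv_eq_of_mul_eq_one_right hσσ
  haveI : (Om : Subgroup O8).Normal := inferInstance
  let p' : Qt z :=
    { Q := p.Q, hz := p.hz, X := p.X, cQ := p.cQ, nQ := p.nQ, card := p.card
      μ := (MulAut.conj σ).toMonoidHom.comp p.μ
      ker := fun c => by
        rw [← p.ker c, MonoidHom.comp_apply]
        exact (MulEquiv.map_eq_one_iff (MulAut.conj σ))
      rng := by
        rw [MonoidHom.range_comp, p.rng]
        exact normal_map_conj Om σ
      π := fun v => swapC (p.π v)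
      π_lt := fun v => (swap_ok _ (p.π_lt v)).1
      π_mul := fun a ha b hb => by
        rw [p.π_mul a ha b hb]
        have := cd_xor σ (p.π a) (p.π b)
        rwa [hσ _ (p.π_lt a), hσ _ (p.π_lt b), hσ _ (xor_lt (p.π_lt a) (p.π_lt b))] at this
      π_surj := fun x hx => by
        obtain ⟨v, hv, e⟩ := p.π_surj _ (swap_ok x hx).1
        exact ⟨v, hv, by rw [e, (swap_ok x hx).2.2]⟩
      π_zero := fun v hv => by
        rw [← p.π_zero v hv]
        refine ⟨fun h => ?_, fun h => by rw [h]; rfl⟩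
        have := congrArg swapC h
        rwa [(swap_ok _ (p.π_lt v)).2.2] at this
      π_sq := fun v hv => by rw [p.π_sq v hv, (swap_ok _ (p.π_lt v)).2.1]
      π_comm := fun a ha b hb => by
        rw [p.π_comm a ha b hb, ← hσ _ (p.π_lt a), ← hσ _ (p.π_lt b), cd_p σ (p.π_lt a) (p.π_lt b)]
      π_act := fun c v hv => by
        show swapC (p.π _) = cd (σ * p.μ c * σ⁻¹) (swapC (p.π v))
        rw [p.π_act c v hv, hσi, cd_mul, cd_mul, hσ _ (swap_ok _ (p.π_lt v)).1, (swap_ok _ (p.π_lt v)).2.2,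
          hσ _ (cd_lt _ _)]
      nwc := p.nwc
      s := p.s, hs := p.hs, πs := by show swapC _ = 1; rw [p.πs]; rfl
      k := p.k, kz := p.kz, ks := p.ks
      q := p.q, hq := p.hq, πq := by show swapC _ = 16; rw [p.πq]; rfl }
  have hm : ∀ {x : G}, Commute x z → p'.toCtx.m x = σ * p.toCtx.m x * σ⁻¹ := fun {x} hx => by
    rw [Ctx.m, Ctx.m, dif_pos (Ctx.mem_C.mpr hx), dif_pos (Ctx.mem_C.mpr hx)]
    rfl
  have h0 : σ * el w0 * σ⁻¹ = el w0 := cd_basis fun k hk => by
    have hl := basis8_lt k hk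
    rw [hσi, cd_mul, cd_mul, hσ k hl, cd_el (okP_of_okS w0_ok) (swap_ok k hl).1,
      hσ _ (by rw [← cd_el (okP_of_okS w0_ok) (swap_ok k hl).1]; exact cd_lt _ _), cd_el (okP_of_okS w0_ok) hl]
    revert k
    decide +kernel
  obtain ⟨hL, hLm⟩ := p.Lf_spec (el_mem w0_ok)
  have hL' : p'.Lf (el w0) = p.Lf (el w0) :=
    p'.Lf_eq (el_mem w0_ok) hL (by rw [hm hL.1.1, hLm, h0])
  obtain ⟨x, hx, hxπ⟩ := p.π_surj 128 (by norm_num)
  have hsw : p'.π x = 8 := by
    show swapC (p.π x) = 8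
    rw [hxπ]; rfl
  suffices h : p'.Fb (el w0) 8 = false from ⟨{ toQt := p', sign8 := h }⟩
  refine p'.Fb_of_conj (el_mem w0_ok) ((cd_el (okP_of_okS w0_ok) (by norm_num)).trans fix_w0.1) hx hsw ?_
  rw [hL', p.conj_Fb (el_mem w0_ok) ((cd_el (okP_of_okS w0_ok) (by norm_num)).trans fix_w0.2.1) hx hxπ, h128]
  rfl

end Qt

/-- The check determining the sign of a conjugate of the basic root element. -/
def signOK (k g : List (ℕ × ℕ)) (w : ℕ) : Bool :=
  k.all okS && k.reverse.all okS && g.all okS && decide (w < 256) && sameAct (k ++ k.reverse) [] &&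
    sameAct (k ++ w0 ++ k.reverse) g && act g w == w && decide (act k.reverse w ∈ W) &&
    act w0 (act k.reverse w) == act k.reverse w

theorem fixed_w0 : ∀ v ∈ W, act w0 v = v → v = (bif v.testBit 1 then 2 else 0) ^^^ (bif v.testBit 2 then 4 else 0) ^^^
    (bif v.testBit 3 then 8 else 0) ^^^ (bif v.testBit 7 then 128 else 0) := by decide +kernel

theorem change2 : act w0 64 = 66 ∧ pB 64 66 = false ∧ act w0 32 = 36 ∧ pB 32 36 = false := by decide +kernel

namespace Fr

variable (p : Fr z)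

theorem w0_sq : el w0 * el w0 = 1 := by
  rw [← el_append]
  exact el_eq (l' := []) (by decide +kernel)

theorem Fb_w0_basis : p.Fb (el w0) 2 = false ∧ p.Fb (el w0) 4 = false ∧ p.Fb (el w0) 128 = true := by
  have hw := el_mem w0_ok
  have hc : ∀ {v : ℕ}, v < 256 → cd (el w0) v = act w0 v := fun {v} hv => cd_el (okP_of_okS w0_ok) hv
  obtain ⟨a1, a2, b1, b2⟩ := change2
  have ha := p.toQt.Fb_change hw w0_sq (v := 64) (by norm_num)
  have hb := p.toQt.Fb_change hw w0_sq (v := 32) (by norm_num)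
  rw [hc (by norm_num), a1, a2] at ha
  rw [hc (by norm_num), b1, b2] at hb
  refine ⟨ha, hb, ?_⟩
  have h := p.toQt.sign136
  rw [show (136 : ℕ) = 8 ^^^ 128 from rfl, p.toQt.Fb_add hw (by norm_num) (by norm_num)
    ((hc (by norm_num)).trans Qt.fix_w0.1) ((hc (by norm_num)).trans Qt.fix_w0.2.1), p.sign8] at h
  simpa using h

theorem Fb_w0 {v : ℕ} (hv : v ∈ W) (hf : act w0 v = v) : p.Fb (el w0) v = v.testBit 7 := by
  have hw := el_mem w0_ok
  obtain ⟨e2, e4, e128⟩ := p.Fb_w0_basis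
  have e0 : p.Fb (el w0) 0 = false := by
    have := p.toQt.Fb_add hw (v := 0) (w := 0) (by norm_num) (by norm_num) (cd_zero _) (cd_zero _)
    rw [Nat.xor_self, Bool.xor_self] at this
    exact this
  have hfix : ∀ c : Bool, ∀ u ∈ [2, 4, 8, 128], (bif c then u else 0) < 256 ∧
      cd (el w0) (bif c then u else 0) = (bif c then u else 0) := fun c u hu => by
    cases c
    · exact ⟨by norm_num [cond_false], cd_zero _⟩
    · have hu' : u < 256 ∧ act w0 u = u := (by decide +kernel : ∀ u ∈ [2, 4, 8, 128], u < 256 ∧ act w0 u = u) u hu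
      exact ⟨hu'.1, (cd_el (okP_of_okS w0_ok) hu'.1).trans hu'.2⟩
  have hval : ∀ c : Bool, ∀ u, p.Fb (el w0) (bif c then u else 0) = (c && p.Fb (el w0) u) := fun c u => by
    cases c
    · exact e0
    · rfl
  obtain ⟨l1, f1⟩ := hfix (v.testBit 1) 2 (by decide)
  obtain ⟨l2, f2⟩ := hfix (v.testBit 2) 4 (by decide)
  obtain ⟨l3, f3⟩ := hfix (v.testBit 3) 8 (by decide)
  obtain ⟨l7, f7⟩ := hfix (v.testBit 7) 128 (by decide)
  conv_lhs => rw [fixed_w0 v hv hf]
  rw [p.toQt.Fb_add hw (xor_lt (xor_lt l1 l2) l3) l7 (by rw [cd_xor, cd_xor, f1, f2, f3]) f7,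
    p.toQt.Fb_add hw (xor_lt l1 l2) l3 (by rw [cd_xor, f1, f2]) f3, p.toQt.Fb_add hw l1 l2 f1 f2,
    hval, hval, hval, hval, e2, e4, p.sign8, e128]
  cases v.testBit 1 <;> cases v.testBit 2 <;> cases v.testBit 3 <;> cases v.testBit 7 <;> rfl

/-- The sign of a conjugate of the basic root element. -/
theorem sign {k g : List (ℕ × ℕ)} {w : ℕ} (h : signOK k g w = true) :
    p.Fb (el g) w = (act k.reverse w).testBit 7 := by
  simp only [signOK, Bool.and_eq_true, decide_eq_true_eq, beq_iff_eq] at h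
  obtain ⟨⟨⟨⟨⟨⟨⟨⟨ok, okr⟩, og⟩, hwl⟩, rk⟩, e⟩, fg⟩, hW⟩, hf⟩ := h
  have hr := el_rev rk
  have e1 : cd (el k) (act k.reverse w) = w := by
    rw [← cd_el (okP_of_okS okr) hwl, hr, cd_inv' _ hwl]
  have h2 := p.toQt.Fb_conj (el_mem ok) (el_mem w0_ok) (W_lt _ hW).1
    ((cd_el (okP_of_okS w0_ok) (W_lt _ hW).1).trans hf)
  rw [el_conj rk e, e1, p.Fb_w0 hW hf] at h2
  exact h2

end Fr

end Cfsg.Lib.ConwayType
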