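import Cfsg.Agent.ConwayType.Normal
import Cfsg.Agent.ConwayType.MathieuLocal.Sign

/-!
Eleven commuting involutions.
-/

set_option autoImplicit false
set_option maxRecDepth 100000
set_option maxHeartbeats 1000000
set_option linter.unusedSectionVars false
set_option linter.style.haveILetI false

namespace Cfsg.Lib.ConwayType

open Subgroup Cfsg.Lib.ConwayType.Code
open scoped commutatorElement

universe u

variable {G : Type u} [Group G] [Finite G] {z : G}

/-- The word of the element exchanging 32 with 32+64 by conjugation. -/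
def wa : List (ℕ × ℕ) := [(64, 2)]

/-- The word of the element exchanging 64 with 64+128 by conjugation. -/
def wb : List (ℕ × ℕ) := [(128, 4)]

/-- A bit-indexed product. -/
def evL {H : Type*} [Monoid H] (f : ℕ → H) (l : List ℕ) (x : ℕ) : H :=
  (l.map fun i => if x.testBit i then f i else 1).prod

theorem evL_comm {H : Type*} [Monoid H] {f : ℕ → H} {a : H} (h : ∀ i, Commute a (f i)) (l : List ℕ) (x : ℕ) :
    Commute a (evL f l x) := by
  refine Commute.list_prod_right _ _ fun g hg => ?_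
  obtain ⟨i, -, rfl⟩ := List.mem_map.mp hg
  split
  · exact h i
  · exact Commute.one_right a

theorem evL_xor {H : Type*} [Monoid H] {f : ℕ → H} (hc : ∀ i j, Commute (f i) (f j)) (h2 : ∀ i, f i * f i = 1)
    (l : List ℕ) (x y : ℕ) : evL f l (x ^^^ y) = evL f l x * evL f l y := by
  induction l with
  | nil => simp [evL]
  | cons i l ih =>
    have e : ∀ x, evL f (i :: l) x = (if x.testBit i then f i else 1) * evL f l x := fun x => by simp [evL]
    rw [e, e, e, ih]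
    have hcx : Commute (evL f l x) (if y.testBit i then f i else 1) := by
      split
      · exact (evL_comm (hc i) l x).symm
      · exact Commute.one_right _
    have hm : (if (x ^^^ y).testBit i then f i else 1) =
        (if x.testBit i then f i else 1) * (if y.testBit i then f i else 1) := by
      rw [Nat.testBit_xor]
      cases x.testBit i <;> cases y.testBit i <;> simp [h2]
    rw [hm, mul_assoc, mul_assoc, ← mul_assoc (evL f l x), hcx.eq, mul_assoc]

/-- The checks on the fixed totally singular codes. -/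
theorem frame_ok :
    signOK [(2, 128), (8, 32)] (hw 0) 2 = true ∧ signOK [(2, 128), (8, 32)] (hw 0) 4 = true ∧
      signOK [(2, 128), (8, 32)] (hw 0) 8 = true ∧ signOK [(4, 128), (8, 64)] (hw 1) 2 = true ∧
      signOK [(4, 128), (8, 64)] (hw 1) 4 = true ∧ signOK [(4, 128), (8, 64)] (hw 1) 8 = true ∧
      signOK [] (hw 2) 2 = true ∧ signOK [] (hw 2) 4 = true ∧ signOK [] (hw 2) 8 = true ∧
      (∀ u ∈ [2, 4, 8], (act [(2, 128), (8, 32)].reverse u).testBit 7 = false ∧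
        (act [(4, 128), (8, 64)].reverse u).testBit 7 = false ∧ (act [].reverse u).testBit 7 = false) := by
  decide +kernel

theorem hw_ok : ∀ i < 3, (hw i).all okS = true ∧ sameAct (hw i ++ hw i) [] = true ∧
    ∀ j < 3, sameAct (hw i ++ hw j) (hw j ++ hw i) = true := by decide +kernel

theorem hw_le : ∀ i, hw i = hw (min i 2)
  | 0 => rfl
  | 1 => rfl
  | 2 => rfl
  | n + 3 => by simp [hw]

theorem singular_codes : ∀ w ∈ [2, 4, 8, 32, 64, 128], w ∈ W ∧ qB w = false := by decide +kernel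

theorem orth_U : ∀ v ∈ [2, 4, 8], ∀ w ∈ [2, 4, 8], pB v w = false := by decide +kernel

namespace Fr

variable (p : Fr z)

/-- An exact lift. -/
def Lift (x : G) (w : ℕ) : Prop := x ∈ p.Q ∧ p.π x = w

/-- The conjugate commutator of a lift. -/
def rof (x : G) : G := x * p.toQt.qc * x * p.toQt.qc

/-- The three involutions of the section stabiliser. -/
noncomputable def tv (i : ℕ) : G := p.toQt.Lf (el (hw i))

/-- The first element of the dihedral group. -/
noncomputable def la : G := p.toQt.Lf (el wa)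

/-- The second element of the dihedral group. -/
noncomputable def lb : G := p.toQt.Lf (el wb)

/-- The lift of the code 32. -/
noncomputable def x32 : G := (p.π_surj 32 (by norm_num)).choose

/-- The lift of the code 64. -/
noncomputable def x64 : G := p.x32 * (p.la * p.x32 * p.la⁻¹)

/-- The lift of the code 128. -/
noncomputable def x128 : G := p.x64 * (p.lb * p.x64 * p.lb⁻¹)

/-- The lifts of the totally singular codes. -/
noncomputable def xu : ℕ → G
  | 2 => p.tv 2 * p.x64 * p.tv 2 * p.x64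
  | 4 => p.tv 2 * p.x32 * p.tv 2 * p.x32
  | _ => p.tv 0 * p.x64 * p.tv 0 * p.x64

/-- The conjugate commutators of these lifts. -/
noncomputable def ru (u : ℕ) : G := p.rof (p.xu u)

/-- The eleven generators. -/
noncomputable def gen : ℕ → G
  | 0 => z
  | 1 => p.s
  | 2 => p.xu 2
  | 3 => p.xu 4
  | 4 => p.xu 8
  | 5 => p.ru 2
  | 6 => p.ru 4
  | 7 => p.ru 8
  | 8 => p.tv 0
  | 9 => p.tv 1
  | _ => p.tv 2

variable {p}

theorem el_lift {g : List (ℕ × ℕ)} (hg : g.all okS = true) {x : G} {w : ℕ} (h : p.Lift x w) :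
    p.Lift (p.toQt.Lf (el g) * x * (p.toQt.Lf (el g))⁻¹) (act g w) := by
  obtain ⟨hL, hm⟩ := p.toQt.Lf_spec (el_mem hg)
  refine ⟨p.toCtx.norm hL.1.1 h.1, ?_⟩
  rw [p.toCtx.act hL.1.1 h.1, hm, h.2, cd_el (okP_of_okS hg) (by rw [← h.2]; exact p.π_lt x)]

theorem Lift.mul {x y : G} {v w : ℕ} (hx : p.Lift x v) (hy : p.Lift y w) : p.Lift (x * y) (v ^^^ w) :=
  ⟨mul_mem hx.1 hy.1, by rw [p.π_mul x hx.1 y hy.1, hx.2, hy.2]⟩

theorem Lift.commute_z {x : G} {w : ℕ} (h : p.Lift x w) : Commute x z := p.X.central x h.1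

theorem Lift.comm {x y : G} {v w : ℕ} (hx : p.Lift x v) (hy : p.Lift y w) (h : pB v w = false) : Commute x y :=
  (p.π_comm x hx.1 y hy.1).mpr (by rw [hx.2, hy.2]; exact h)

theorem Lift.memA {x : G} {w : ℕ} (h : p.Lift x w) (hw : w ∈ W) : p.A x :=
  p.toPt.A_of_perp h.1 (by rw [h.2]; exact (W_lt w hw).2.1)

theorem Lift.α {x : G} {w : ℕ} (h : p.Lift x w) (hw : w ∈ W) : p.α x = w := by
  rw [Pt.α, h.2, (W_lt w hw).2.2]

theorem Lift.comm_q {x : G} {w : ℕ} (h : p.Lift x w) (hw : w ∈ W) : Commute x p.q :=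
  (p.π_comm x h.1 _ p.hq).mpr (by rw [h.2, p.πq, pB_comm]; exact perp16_W w hw)

theorem Lift.sq {x : G} {w : ℕ} (h : p.Lift x w) (hq : qB w = false) : x * x = 1 :=
  (p.π_sq x h.1).mpr (by rw [h.2]; exact hq)

theorem Lift.rof_eq {x : G} {w : ℕ} (h : p.Lift x w) (hq : qB w = false) : p.rof x = p.toQt.cm x := by
  rw [rof, Qt.cm, inv_eq_of_mul_eq_one_right (h.sq hq), p.toQt.qc_inv]

theorem Lift.rof_R {x : G} {w : ℕ} (h : p.Lift x w) (hw : w ∈ W) (hq : qB w = false) :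
    p.R (p.rof x) ∧ p.β (p.rof x) = w ∧ p.rof x * p.rof x = 1 := by
  rw [h.rof_eq hq]
  have hR := p.toQt.cm_R (h.memA hw)
  have hb : p.β (p.toQt.cm x) = w := by rw [p.toQt.β_cm (h.memA hw), h.α hw]
  exact ⟨hR, hb, (p.toPt.β_sq hR).mpr (by rw [hb]; exact hq)⟩

theorem Lift.qc_conj {x : G} {w : ℕ} (h : p.Lift x w) (hq : qB w = false) :
    p.toQt.qc * x * p.toQt.qc = x * p.rof x := by
  rw [rof]
  calc p.toQt.qc * x * p.toQt.qc = x * x * p.toQt.qc * x * p.toQt.qc := by rw [h.sq hq, one_mul]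
    _ = _ := by group

theorem Lift.comm_rof {x y : G} {v w : ℕ} (hx : p.Lift x v) (hy : p.Lift y w) (hv : v ∈ W) (hw : w ∈ W)
    (hqw : qB w = false) (h : pB v w = false) : Commute x (p.rof y) := by
  obtain ⟨hR, hb, -⟩ := hy.rof_R hw hqw
  exact p.toPt.cab_one (hx.memA hv) hR (by rw [hx.α hv, hb]; exact h)

theorem Lift.rof_comm {x y : G} {v w : ℕ} (hx : p.Lift x v) (hy : p.Lift y w) (hv : v ∈ W) (hw : w ∈ W)
    (hqv : qB v = false) (hqw : qB w = false) (h : pB v w = false) : Commute (p.rof x) (p.rof y) := by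
  have h' : pB w v = false := by rw [pB_comm]; exact h
  have c0 : Commute (p.toQt.qc * x * p.toQt.qc) (p.toQt.qc * y * p.toQt.qc) := by
    have := (Commute.conj_iff p.toQt.qc).mpr (hx.comm hy h)
    rwa [p.toQt.qc_inv] at this
  rw [hx.qc_conj hqv, hy.qc_conj hqw] at c0
  have c1 : Commute x (y * p.rof y) := (hx.comm hy h).mul_right (hx.comm_rof hy hv hw hqw h)
  have c2 := c1.inv_left.mul_left c0
  rw [inv_mul_cancel_left] at c2
  have c3 : Commute (p.rof x) y := (hy.comm_rof hx hw hv hqv h').symm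
  have c4 := c3.inv_right.mul_right c2
  rwa [inv_mul_cancel_left] at c4

variable (p)

theorem tv_spec (i : ℕ) : p.toQt.Lg (p.tv i) ∧ p.toCtx.m (p.tv i) = el (hw i) := by
  refine p.toQt.Lf_spec (el_mem ?_)
  rw [hw_le]; exact (hw_ok _ (by omega)).1

theorem tv_sq (i : ℕ) : p.tv i * p.tv i = 1 := by
  obtain ⟨ok, e, -⟩ := hw_ok (min i 2) (by omega)
  rw [tv, hw_le, ← p.toQt.Lf_mul (el_mem ok) (el_mem ok), ← el_append, el_eq e]
  exact p.toQt.Lf_one

theorem tv_inv (i : ℕ) : (p.tv i)⁻¹ = p.tv i := inv_eq_of_mul_eq_one_right (p.tv_sq i)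

theorem tv_comm (i j : ℕ) : Commute (p.tv i) (p.tv j) := by
  obtain ⟨oki, -, e⟩ := hw_ok (min i 2) (by omega)
  obtain ⟨okj, -, -⟩ := hw_ok (min j 2) (by omega)
  rw [tv, tv, hw_le i, hw_le j]
  show _ * _ = _ * _
  rw [← p.toQt.Lf_mul (el_mem oki) (el_mem okj), ← p.toQt.Lf_mul (el_mem okj) (el_mem oki), ← el_append, ← el_append,
    el_eq (e _ (by omega))]

theorem lift32 : p.Lift p.x32 32 := (p.π_surj 32 (by norm_num)).choose_spec

theorem lift64 : p.Lift p.x64 64 := by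
  have h := p.lift32.mul (el_lift (g := wa) (by decide +kernel) p.lift32)
  rwa [show 32 ^^^ act wa 32 = 64 by decide +kernel] at h

theorem lift128 : p.Lift p.x128 128 := by
  have h := p.lift64.mul (el_lift (g := wb) (by decide +kernel) p.lift64)
  rwa [show 64 ^^^ act wb 64 = 128 by decide +kernel] at h

theorem lift_com {x : G} {w : ℕ} (h : p.Lift x w) (i : ℕ) :
    p.Lift (p.tv i * x * p.tv i * x) (act (hw i) w ^^^ w) := by
  have ok : (hw i).all okS = true := by rw [hw_le]; exact (hw_ok _ (by omega)).1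
  have := (el_lift ok h).mul h
  rwa [show p.toQt.Lf (el (hw i)) = p.tv i from rfl, p.tv_inv] at this

theorem lift_u : p.Lift (p.xu 2) 2 ∧ p.Lift (p.xu 4) 4 ∧ p.Lift (p.xu 8) 8 := by
  refine ⟨?_, ?_, ?_⟩
  · have := p.lift_com p.lift64 2
    rwa [show act (hw 2) 64 ^^^ 64 = 2 by decide +kernel] at this
  · have := p.lift_com p.lift32 2
    rwa [show act (hw 2) 32 ^^^ 32 = 4 by decide +kernel] at this
  · have := p.lift_com p.lift64 0
    rwa [show act (hw 0) 64 ^^^ 64 = 8 by decide +kernel] at this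

theorem lift_xu {u : ℕ} (hu : u ∈ [2, 4, 8]) : p.Lift (p.xu u) u ∧ u ∈ W ∧ qB u = false := by
  obtain ⟨a, b, c⟩ := p.lift_u
  simp only [List.mem_cons, List.not_mem_nil, or_false] at hu
  rcases hu with rfl | rfl | rfl
  · exact ⟨a, singular_codes 2 (by decide)⟩
  · exact ⟨b, singular_codes 4 (by decide)⟩
  · exact ⟨c, singular_codes 8 (by decide)⟩

theorem sign_u (i : ℕ) {u : ℕ} (hu : u ∈ [2, 4, 8]) : p.Fb (el (hw i)) u = false := by
  obtain ⟨a2, a4, a8, b2, b4, b8, c2, c4, c8, hb⟩ := frame_ok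
  obtain ⟨ha, hb, hc⟩ := hb u hu
  rw [hw_le]
  simp only [List.mem_cons, List.not_mem_nil, or_false] at hu
  obtain h | h | h : min i 2 = 0 ∨ min i 2 = 1 ∨ min i 2 = 2 := by omega
  all_goals rw [h]; rcases hu with rfl | rfl | rfl
  exacts [(p.sign a2).trans ha, (p.sign a4).trans ha, (p.sign a8).trans ha, (p.sign b2).trans hb, (p.sign b4).trans hb,
    (p.sign b8).trans hb, (p.sign c2).trans hc, (p.sign c4).trans hc, (p.sign c8).trans hc]

theorem tv_xu (i : ℕ) {u : ℕ} (hu : u ∈ [2, 4, 8]) : Commute (p.tv i) (p.xu u) := by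
  obtain ⟨hl, -, -⟩ := p.lift_xu hu
  have ok : (hw i).all okS = true := by rw [hw_le]; exact (hw_ok _ (by omega)).1
  have hf : cd (el (hw i)) u = u := by
    rw [hw_le, cd_el (okP_of_okS (hw_ok _ (by omega)).1) (by rw [← hl.2]; exact p.π_lt _)]
    exact (by decide +kernel : ∀ j < 3, ∀ u ∈ [2, 4, 8], act (hw j) u = u) _ (by omega) u hu
  have h := p.toQt.conj_Fb (el_mem ok) hf hl.1 hl.2
  rw [p.sign_u i hu, show p.zp false = 1 from rfl, one_mul] at h
  exact mul_inv_eq_iff_eq_mul.mp h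

theorem tv_ru (i : ℕ) {u : ℕ} (hu : u ∈ [2, 4, 8]) : Commute (p.tv i) (p.ru u) :=
  (((p.tv_xu i hu).mul_right (p.tv_spec i).1.2.2).mul_right (p.tv_xu i hu)).mul_right (p.tv_spec i).1.2.2

theorem gen_cases (j : ℕ) : p.gen j = z ∨ p.gen j = p.s ∨ (∃ u ∈ [2, 4, 8], p.gen j = p.xu u) ∨
    (∃ u ∈ [2, 4, 8], p.gen j = p.ru u) ∨ ∃ i, p.gen j = p.tv i := by
  match j with
  | 0 => exact Or.inl rfl
  | 1 => exact Or.inr (Or.inl rfl)
  | 2 => exact Or.inr (Or.inr (Or.inl ⟨2, by decide, rfl⟩))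
  | 3 => exact Or.inr (Or.inr (Or.inl ⟨4, by decide, rfl⟩))
  | 4 => exact Or.inr (Or.inr (Or.inl ⟨8, by decide, rfl⟩))
  | 5 => exact Or.inr (Or.inr (Or.inr (Or.inl ⟨2, by decide, rfl⟩)))
  | 6 => exact Or.inr (Or.inr (Or.inr (Or.inl ⟨4, by decide, rfl⟩)))
  | 7 => exact Or.inr (Or.inr (Or.inr (Or.inl ⟨8, by decide, rfl⟩)))
  | 8 => exact Or.inr (Or.inr (Or.inr (Or.inr ⟨0, rfl⟩)))
  | 9 => exact Or.inr (Or.inr (Or.inr (Or.inr ⟨1, rfl⟩)))
  | _ + 10 => exact Or.inr (Or.inr (Or.inr (Or.inr ⟨2, rfl⟩)))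

theorem gen_T (j : ℕ) : p.T (p.gen j) := by
  rcases p.gen_cases j with e | e | ⟨u, hu, e⟩ | ⟨u, hu, e⟩ | ⟨i, e⟩ <;> rw [e]
  · exact ⟨Commute.refl z, p.toPt.sz.symm⟩
  · exact ⟨p.toPt.sz, Commute.refl _⟩
  · obtain ⟨h, hW, -⟩ := p.lift_xu hu
    exact p.toPt.A_T (h.memA hW)
  · obtain ⟨h, hW, hq⟩ := p.lift_xu hu
    exact p.toPt.R_T (h.rof_R hW hq).1
  · exact (p.tv_spec i).1.1

theorem gen_sq (j : ℕ) : p.gen j * p.gen j = 1 := by
  rcases p.gen_cases j with e | e | ⟨u, hu, e⟩ | ⟨u, hu, e⟩ | ⟨i, e⟩ <;> rw [e]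
  · exact p.X.zz
  · exact p.toPt.ss
  · obtain ⟨h, -, hq⟩ := p.lift_xu hu
    exact h.sq hq
  · obtain ⟨h, hW, hq⟩ := p.lift_xu hu
    exact (h.rof_R hW hq).2.2
  · exact p.tv_sq i

theorem gen_comm (i j : ℕ) : Commute (p.gen i) (p.gen j) := by
  have key : ∀ {a}, (a = z ∨ a = p.s) → ∀ j, Commute (p.gen j) a := fun {a} ha j => by
    rcases ha with e | e <;> rw [e]
    exacts [(p.gen_T j).1, (p.gen_T j).2]
  rcases p.gen_cases i with e | e | h
  · rw [e]; exact (key (Or.inl rfl) j).symm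
  · rw [e]; exact (key (Or.inr rfl) j).symm
  rcases p.gen_cases j with e | e | h'
  · rw [e]; exact key (Or.inl rfl) i
  · rw [e]; exact key (Or.inr rfl) i
  rcases h with ⟨u, hu, e⟩ | ⟨u, hu, e⟩ | ⟨a, e⟩ <;> rcases h' with ⟨v, hv, e'⟩ | ⟨v, hv, e'⟩ | ⟨b, e'⟩ <;>
    rw [e, e']
  · exact (p.lift_xu hu).1.comm (p.lift_xu hv).1 (orth_U u hu v hv)
  · obtain ⟨hl, hW, -⟩ := p.lift_xu hu
    obtain ⟨hl', hW', hq'⟩ := p.lift_xu hv
    exact hl.comm_rof hl' hW hW' hq' (orth_U u hu v hv)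
  · exact (p.tv_xu b hu).symm
  · obtain ⟨hl, hW, hq⟩ := p.lift_xu hu
    obtain ⟨hl', hW', -⟩ := p.lift_xu hv
    exact (hl'.comm_rof hl hW' hW hq (orth_U v hv u hu)).symm
  · obtain ⟨hl, hW, hq⟩ := p.lift_xu hu
    obtain ⟨hl', hW', hq'⟩ := p.lift_xu hv
    exact hl.rof_comm hl' hW hW' hq hq' (orth_U u hu v hv)
  · exact (p.tv_ru b hu).symm
  · exact p.tv_xu a hv
  · exact p.tv_ru a hv
  · exact p.tv_comm a b

/-- The element with given coordinates. -/
noncomputable def ev (x : ℕ) : G := evL p.gen (List.range 11) x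

theorem ev_xor (x y : ℕ) : p.ev (x ^^^ y) = p.ev x * p.ev y := evL_xor p.gen_comm p.gen_sq _ x y

theorem ev_zero : p.ev 0 = 1 := by simp [ev, evL]

theorem ev_comm (x y : ℕ) : Commute (p.ev x) (p.ev y) := by
  show _ * _ = _ * _
  rw [← p.ev_xor, ← p.ev_xor, Nat.xor_comm]

theorem ev_sq (x : ℕ) : p.ev x * p.ev x = 1 := by rw [← p.ev_xor, Nat.xor_self, p.ev_zero]

theorem ev_bit {i : ℕ} (hi : i < 11) : p.ev (2 ^ i) = p.gen i := by
  interval_cases i <;> simp +decide [ev, evL, List.range_succ, Nat.testBit_two_pow]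

theorem ev_T (x : ℕ) : p.T (p.ev x) :=
  ⟨(evL_comm (fun i => (p.gen_T i).1.symm) _ x).symm, (evL_comm (fun i => (p.gen_T i).2.symm) _ x).symm⟩

end Fr

end Cfsg.Lib.ConwayType
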