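import Cfsg.Agent.ConwayType.Split

/-!
Words in Siegel maps fixing the hyperbolic pair with codes one and sixteen.
-/

set_option autoImplicit false
set_option maxRecDepth 100000
set_option maxHeartbeats 1000000
set_option linter.style.haveILetI false

namespace Cfsg.Lib.ConwayType

open Cfsg.Lib.ConwayType.Code
open Cfsg.Lib.Classical.OrthH1 (sN)

/-- An admissible Siegel pair. -/
def okP (t : ℕ × ℕ) : Bool := decide (t.1 < 256) && decide (t.2 < 256) && !qB t.1 && !pB t.1 t.2

/-- An admissible Siegel pair fixing the hyperbolic pair. -/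
def okS (t : ℕ × ℕ) : Bool := okP t && sN qB t.1 t.2 1 == 1 && sN qB t.1 t.2 16 == 16

/-- The action of a list of Siegel pairs, the last one first. -/
def act (l : List (ℕ × ℕ)) (x : ℕ) : ℕ := l.foldr (fun t y => sN qB t.1 t.2 y) x

theorem act_append (l l' : List (ℕ × ℕ)) (x : ℕ) : act (l ++ l') x = act l (act l' x) := by
  simp [act, List.foldr_append]

/-- The isometry of a pair. -/
noncomputable def sg (t : ℕ × ℕ) : O8 :=
  if h : okP t = true then sieg t (by simpa [okP, and_assoc] using h) else 1

/-- The isometry of a list of pairs. -/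
noncomputable def el (l : List (ℕ × ℕ)) : O8 := (l.map sg).prod

theorem el_cons (t : ℕ × ℕ) (l : List (ℕ × ℕ)) : el (t :: l) = sg t * el l := by simp [el]

theorem el_append (l l' : List (ℕ × ℕ)) : el (l ++ l') = el l * el l' := by simp [el, List.prod_append]

theorem cd_el {l : List (ℕ × ℕ)} (hl : l.all okP = true) {x : ℕ} (hx : x < 256) : cd (el l) x = act l x := by
  induction l with
  | nil => exact cd_one hx
  | cons t l ih =>
    simp only [List.all_cons, Bool.and_eq_true] at hl
    rw [el_cons, cd_mul, ih hl.2, sg, dif_pos hl.1, cd_sieg _ _ (by rw [← ih hl.2]; exact cd_lt _ _)]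
    rfl

theorem el_mem_Om (l : List (ℕ × ℕ)) : el l ∈ Om := by
  refine Subgroup.list_prod_mem _ fun g hg => ?_
  obtain ⟨t, -, rfl⟩ := List.mem_map.mp hg
  rw [sg]
  split
  · exact sieg_mem _ _
  · exact one_mem _

theorem okP_of_okS {l : List (ℕ × ℕ)} (hl : l.all okS = true) : l.all okP = true :=
  List.all_eq_true.mpr fun t ht => by
    have := List.all_eq_true.mp hl t ht
    simp only [okS, Bool.and_eq_true] at this
    exact this.1.1

/-- The stabiliser of the hyperbolic pair. -/
noncomputable def S1 : Subgroup O8 where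
  carrier := {g | g ∈ Om ∧ cd g 1 = 1 ∧ cd g 16 = 16}
  one_mem' := ⟨one_mem _, cd_one (by norm_num), cd_one (by norm_num)⟩
  mul_mem' := fun {a b} ha hb =>
    ⟨mul_mem ha.1 hb.1, by rw [cd_mul, hb.2.1, ha.2.1], by rw [cd_mul, hb.2.2, ha.2.2]⟩
  inv_mem' := fun {a} ha => ⟨inv_mem ha.1, by
      conv_lhs => rw [← ha.2.1]
      exact cd_inv a (by norm_num), by
      conv_lhs => rw [← ha.2.2]
      exact cd_inv a (by norm_num)⟩

theorem el_mem {l : List (ℕ × ℕ)} (hl : l.all okS = true) : el l ∈ S1 := by
  refine Subgroup.list_prod_mem _ fun g hg => ?_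
  obtain ⟨t, ht, rfl⟩ := List.mem_map.mp hg
  have h := List.all_eq_true.mp hl t ht
  simp only [okS, Bool.and_eq_true, beq_iff_eq] at h
  rw [sg, dif_pos h.1.1]
  exact ⟨sieg_mem _ _, (cd_sieg _ _ (by norm_num)).trans h.1.2, (cd_sieg _ _ (by norm_num)).trans h.2⟩

/-- The basis codes. -/
def basis8 : List ℕ := [1, 2, 4, 8, 16, 32, 64, 128]

theorem basis8_lt : ∀ k ∈ basis8, k < 256 := by decide

/-- Two words with the same action on the basis. -/
def sameAct (l l' : List (ℕ × ℕ)) : Bool :=
  l.all okP && l'.all okP && basis8.all fun k => act l k == act l' k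

theorem el_eq {l l' : List (ℕ × ℕ)} (h : sameAct l l' = true) : el l = el l' := by
  simp only [sameAct, Bool.and_eq_true] at h
  refine cd_basis fun k hk => ?_
  rw [cd_el h.1.1 (basis8_lt k hk), cd_el h.1.2 (basis8_lt k hk)]
  exact beq_iff_eq.mp (List.all_eq_true.mp h.2 k hk)

theorem el_rev {l : List (ℕ × ℕ)} (h : sameAct (l ++ l.reverse) [] = true) : el l.reverse = (el l)⁻¹ := by
  refine eq_inv_of_mul_eq_one_right ?_
  rw [← el_append]
  exact el_eq h

theorem el_conj {k g g' : List (ℕ × ℕ)} (hk : sameAct (k ++ k.reverse) [] = true)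
    (h : sameAct (k ++ g ++ k.reverse) g' = true) : el k * el g * (el k)⁻¹ = el g' := by
  rw [← el_rev hk, ← el_append, ← el_append]
  exact el_eq h

/-- The word of the basic root element. -/
def w0 : List (ℕ × ℕ) := [(2, 4)]

/-- The three root elements fixing the totally singular space of the codes two, four and eight. -/
def hw : ℕ → List (ℕ × ℕ)
  | 0 => [(4, 8)]
  | 1 => [(2, 8)]
  | _ => [(2, 4)]

end Cfsg.Lib.ConwayType
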