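import Cfsg.Agent.ConwayType.Pair
import Cfsg.Agent.ConwayType.MathieuLocal.Words

/-!
A complement on the section inside the pair centralizer: the elements commuting with a lift `q` of the code
sixteen and with its conjugate.
-/

set_option autoImplicit false
set_option maxRecDepth 100000
set_option maxHeartbeats 1000000
set_option linter.unusedSectionVars false
set_option linter.style.haveILetI false

namespace Cfsg.Lib.ConwayType

open Subgroup Cfsg.Lib.ConwayType.Code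
open scoped commutatorElement

universe u

variable {G : Type u} [Group G] [Finite G] {z : G}

/-- A pair together with a lift of the code sixteen. -/
structure Qt (z : G) extends Pt z where
  q : G
  hq : q ∈ Q
  πq : π q = 16

theorem nondeg_W : ∀ c ∈ W, (∀ x ∈ W, pB c x = false) → c = 0 := by decide +kernel

theorem two_W : ∀ c ∈ W, (∀ x ∈ W, pB c x = pB 2 x) → c = 2 := by decide +kernel

theorem perp16_W : ∀ w ∈ W, pB 16 w = false := by decide +kernel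

theorem Pt.exists_qt (p : Pt z) : Nonempty (Qt z) := by
  obtain ⟨q, hq, e⟩ := p.π_surj 16 (by norm_num)
  exact ⟨{ toPt := p, q := q, hq := hq, πq := e }⟩

namespace Pt

variable (p : Pt z)

/-- The central involution from a bit. -/
def zp (_p : Pt z) (b : Bool) : G := bif b then z else 1

theorem zp_mul (a b : Bool) : p.zp a * p.zp b = p.zp (a ^^ b) := by
  cases a <;> cases b <;> simp [zp, p.X.zz]

theorem zp_inj {a b : Bool} (h : p.zp a = p.zp b) : a = b := by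
  cases a <;> cases b <;> simp [zp, p.X.ne, Ne.symm p.X.ne] at h <;> rfl

theorem zp_comm {x : G} (hx : Commute x z) (b : Bool) : Commute x (p.zp b) := by
  cases b
  · exact Commute.one_right x
  · exact hx

theorem Q'_norm {x v : G} (hx : Commute x p.s) (hv : v ∈ p.Q') : x * v * x⁻¹ ∈ p.Q' := by
  rw [p.mem_Q'] at hv ⊢
  have h := (Commute.conj_iff p.k⁻¹).mpr hx
  rw [inv_inv, p.kinv_s] at h
  rw [show p.k⁻¹ * (x * v * x⁻¹) * p.k = p.k⁻¹ * x * p.k * (p.k⁻¹ * v * p.k) * (p.k⁻¹ * x * p.k)⁻¹ by group]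
  exact p.toCtx.norm h hv

theorem m_A {x : G} (hx : p.A x) : p.toCtx.m x = 1 := (p.toCtx.m_one_iff (p.A_T hx).1).mpr hx.1

theorem β_conjA {x r : G} (hx : p.A x) (hr : p.R r) : p.β (x * r * x⁻¹) = p.β r := by
  rw [p.β_conj (p.A_T hx) hr, p.m_A hx, sa_one (p.β_mem r)]

end Pt

namespace Qt

variable (p : Qt z)

/-- The conjugate of the lift. -/
def qc : G := p.k * p.q * p.k⁻¹

theorem qq : p.q * p.q = 1 := (p.π_sq p.q p.hq).mpr (by rw [p.πq]; decide)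

theorem qinv : p.q⁻¹ = p.q := inv_eq_of_mul_eq_one_right p.qq

theorem qz : Commute p.q z := p.X.central _ p.hq

theorem q_conj_s : p.q * p.s * p.q⁻¹ = z * p.s :=
  p.X.not_commute_conj p.hq p.hs fun h => by
    have := (p.π_comm _ p.hq _ p.hs).mp h
    rw [p.πq, p.πs] at this
    exact absurd this (by decide)

theorem qc_mem : p.qc ∈ p.Q' := p.toPt.mem_Q'.mpr (by
  rw [qc, show p.k⁻¹ * (p.k * p.q * p.k⁻¹) * p.k = p.q by group]; exact p.hq)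

theorem qcqc : p.qc * p.qc = 1 := by
  rw [qc, show p.k * p.q * p.k⁻¹ * (p.k * p.q * p.k⁻¹) = p.k * (p.q * p.q) * p.k⁻¹ by group, p.qq]; group

theorem qc_inv : p.qc⁻¹ = p.qc := inv_eq_of_mul_eq_one_right p.qcqc

theorem qc_s : Commute p.qc p.s := p.toPt.X'.central _ p.qc_mem

theorem qc_conj_z : p.qc * z * p.qc⁻¹ = z * p.s := by
  calc p.qc * z * p.qc⁻¹ = p.qc * (p.k * p.s * p.k⁻¹) * p.qc⁻¹ := by rw [p.ks]
    _ = p.k * (p.q * p.s * p.q⁻¹) * p.k⁻¹ := by rw [qc]; group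
    _ = p.k * z * p.k⁻¹ * (p.k * p.s * p.k⁻¹) := by rw [p.q_conj_s]; group
    _ = _ := by rw [p.kz, p.ks, p.toPt.sz.eq]

theorem qc_inv_conj_z : p.qc⁻¹ * z * p.qc = z * p.s := by
  have := p.qc_conj_z
  rw [p.qc_inv] at this ⊢
  exact this

theorem qc_conj_zs : p.qc * (z * p.s) * p.qc⁻¹ = z :=
  calc p.qc * (z * p.s) * p.qc⁻¹ = p.qc * z * p.qc⁻¹ * (p.qc * p.s * p.qc⁻¹) := by group
    _ = _ := by rw [p.qc_conj_z, p.qc_s.eq, mul_inv_cancel_right, mul_assoc, p.toPt.ss, mul_one]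

theorem qc_E {e : G} (he : p.InE e) : p.InE (p.qc * e * p.qc⁻¹) := by
  rcases he with rfl | rfl | rfl | rfl
  · exact Or.inl (by group)
  · exact Or.inr (Or.inr (Or.inr p.qc_conj_z))
  · exact Or.inr (Or.inr (Or.inl (by rw [p.qc_s.eq, mul_inv_cancel_right])))
  · exact Or.inr (Or.inl p.qc_conj_zs)

/-- The commutator with the conjugate lift. -/
def cm (x : G) : G := x * p.qc * x⁻¹ * p.qc⁻¹

theorem cm_R {x : G} (hx : p.A x) : p.R (p.cm x) := by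
  refine ⟨mul_mem (p.toPt.Q'_norm hx.2 p.qc_mem) (inv_mem p.qc_mem), ?_⟩
  have hz := (p.toPt.A_T hx).1
  have h : p.cm x * z * (p.cm x)⁻¹ = z :=
    calc p.cm x * z * (p.cm x)⁻¹ = x * (p.qc * (x⁻¹ * (p.qc⁻¹ * z * p.qc) * x) * p.qc⁻¹) * x⁻¹ := by
          rw [cm]; group
      _ = x * (p.qc * (x⁻¹ * (z * p.s) * x) * p.qc⁻¹) * x⁻¹ := by
          rw [p.qc_inv_conj_z]
      _ = x * (p.qc * (z * p.s) * p.qc⁻¹) * x⁻¹ := by
          rw [((hz.mul_right hx.2).inv_left).eq, inv_mul_cancel_right]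
      _ = _ := by rw [p.qc_conj_zs, hz.eq, mul_inv_cancel_right]
  exact mul_inv_eq_iff_eq_mul.mp h

theorem cm_mul {x y : G} : p.cm (x * y) = x * p.cm y * x⁻¹ * p.cm x := by simp only [cm]; group

theorem β_cm_mul {x y : G} (hx : p.A x) (hy : p.A y) : p.β (p.cm (x * y)) = p.β (p.cm x) ^^^ p.β (p.cm y) := by
  rw [p.cm_mul, p.toPt.β_mul (p.toPt.R_norm (p.toPt.A_T hx) (p.cm_R hy)) (p.cm_R hx),
    p.toPt.β_conjA hx (p.cm_R hy), Nat.xor_comm]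

theorem β_cm_E {e : G} (he : p.InE e) : p.β (p.cm e) = 0 := by
  refine p.toPt.β_E ?_
  rw [cm, show e * p.qc * e⁻¹ * p.qc⁻¹ = e * (p.qc * e⁻¹ * p.qc⁻¹) by group]
  exact p.toPt.E_cases he _ (p.qc_E (p.toPt.E_inv he))

theorem β_cm_congr {x x' : G} (hx : p.A x) (hx' : p.A x') (h : p.α x = p.α x') :
    p.β (p.cm x) = p.β (p.cm x') := by
  have he : p.InE (x⁻¹ * x') := p.toPt.α_zero (p.toPt.A_mul (p.toPt.A_inv hx) hx') (by
    rw [p.toPt.α_mul (p.toPt.A_inv hx) hx', p.toPt.α_inv hx, h, Nat.xor_self])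
  have := p.β_cm_mul hx (p.toPt.E_A he)
  rw [mul_inv_cancel_left, p.β_cm_E he, Nat.xor_zero] at this
  exact this.symm

theorem β_cm_conj {t x : G} (ht : p.T t) (hx : p.A x) :
    p.β (p.cm (t * x * t⁻¹)) = sa (p.toCtx.m t) (p.β (p.cm x)) := by
  set y := t * x * t⁻¹ with hy
  have hyA : p.A y := p.toPt.A_norm ht hx
  obtain ⟨r, hr⟩ : ∃ r, r = p.qc⁻¹ * (t * p.qc * t⁻¹) := ⟨_, rfl⟩
  have hrR : p.R r := by
    refine ⟨hr ▸ mul_mem (inv_mem p.qc_mem) (p.toPt.Q'_norm ht.2 p.qc_mem), ?_⟩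
    have h : r * z * r⁻¹ = z :=
      calc r * z * r⁻¹ = p.qc⁻¹ * (t * (p.qc * (t⁻¹ * z * t) * p.qc⁻¹) * t⁻¹) * p.qc := by rw [hr]; group
        _ = p.qc⁻¹ * (t * (z * p.s) * t⁻¹) * p.qc := by
          rw [ht.1.inv_left.eq, inv_mul_cancel_right, p.qc_conj_z]
        _ = p.qc⁻¹ * (z * p.s) * p.qc := by rw [(ht.1.mul_right ht.2).eq, mul_inv_cancel_right]
        _ = _ := by
          have := p.qc_conj_zs
          rw [p.qc_inv] at this ⊢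
          exact this
    exact mul_inv_eq_iff_eq_mul.mp h
  have e : t * p.cm x * t⁻¹ = p.cm y * (p.qc * Pt.cab y r * p.qc⁻¹) := by
    have h1 : t * p.qc * t⁻¹ = p.qc * r := by rw [hr, mul_inv_cancel_left]
    calc t * p.cm x * t⁻¹ = y * (t * p.qc * t⁻¹) * y⁻¹ * (t * p.qc * t⁻¹)⁻¹ := by rw [hy, cm]; group
      _ = _ := by rw [h1, cm, Pt.cab]; group
  have hE := p.qc_E (p.toPt.cab_E hyA hrR)
  rw [← p.toPt.β_conj ht (p.cm_R hx), e, p.toPt.β_mul (p.cm_R hyA) (p.toPt.E_R hE), p.toPt.β_E hE, Nat.xor_zero]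

/-- The commutator with the conjugate lift keeps the vector. -/
theorem β_cm {x : G} (hx : p.A x) : p.β (p.cm x) = p.α x := by
  classical
  choose xa hxa hα using fun w : {w // w ∈ W} => p.toPt.α_surj w.2
  let f : ℕ → ℕ := fun w => if h : w ∈ W then p.β (p.cm (xa ⟨w, h⟩)) else 0
  have hf : ∀ {x : G}, p.A x → f (p.α x) = p.β (p.cm x) := fun {x} hx => by
    show (if h : _ then _ else _) = _
    rw [dif_pos (p.toPt.α_mem x)]
    exact p.β_cm_congr (hxa _) hx (hα _)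
  have fmem : ∀ w ∈ W, f w ∈ W := fun w hw => by
    show (if h : _ then _ else _) ∈ W
    rw [dif_pos hw]; exact p.toPt.β_mem _
  have hadd : ∀ a ∈ W, ∀ b ∈ W, f (a ^^^ b) = f a ^^^ f b := fun a ha b hb => by
    have e1 := hα ⟨a, ha⟩; have e2 := hα ⟨b, hb⟩
    dsimp only at e1 e2
    rw [← e1, ← e2, ← p.toPt.α_mul (hxa _) (hxa _), hf (p.toPt.A_mul (hxa _) (hxa _)), hf (hxa _), hf (hxa _),
      p.β_cm_mul (hxa _) (hxa _)]
  have hequ : ∀ h ∈ Om, cd h 1 = 1 → ∀ w ∈ W, f (sa h w) = sa h (f w) := fun h hh h1 w hw => by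
    obtain ⟨t, ht, rfl⟩ := p.toPt.T_lift hh h1
    have e1 := hα ⟨w, hw⟩
    dsimp only at e1
    rw [← e1, ← p.toPt.α_conj ht (hxa _), hf (p.toPt.A_norm ht (hxa _)), hf (hxa _), p.β_cm_conj ht (hxa _)]
  have h2 : (2 : ℕ) ∈ W := two_one
  have f0 : f 0 = 0 := by
    have := hadd 0 (by decide) 0 (by decide)
    rw [Nat.xor_self, Nat.xor_self] at this
    exact this
  have hf2 := functional_eq (fun v => pB (f 2) v)
    (fun a ha b hb => pB_add_right (W_lt a ha).1 (W_lt b hb).1 (W_lt _ (fmem 2 h2)).1)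
    fun h hh h1 e v hv => by
      have e2 := hequ h hh h1 2 h2
      rw [e] at e2
      conv_lhs => rw [e2]
      exact sa_p h1 (fmem 2 h2) hv
  have sing : ∀ (c : ℕ → ℕ), (∀ a b, c (a ^^^ b) = c a ^^^ c b) → (∀ v ∈ W, qB v = false → f v = c v) →
      ∀ w ∈ W, f w = c w := by
    intro c hc hv w hw
    obtain ⟨a, ha, b, hb, ea, eb, rfl⟩ := span_orbit false w hw
    rw [hc, hadd a ha b hb, hv a ha (ea.elim (fun e => by rw [e]; decide) id),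
      hv b hb (eb.elim (fun e => by rw [e]; decide) id)]
  rw [← hf hx]
  rcases hf2 with h | h
  · exfalso
    have e2 : f 2 = 0 := nondeg_W _ (fmem 2 h2) h
    have hz0 : ∀ w ∈ W, f w = 0 := sing (fun _ => 0) (fun _ _ => rfl) fun v hv hq => by
      rcases eq_or_ne v 0 with rfl | h0
      · exact f0
      obtain ⟨g, hg, g1', rfl⟩ := trans_w35 hv hq h0
      rw [hequ g hg g1' 2 h2, e2, sa_zero]
    have hcm : ∀ {x : G}, p.A x → p.InE (p.cm x) := fun {x} hx => by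
      refine p.toPt.R_cap (p.cm_R hx) ((p.toPt.β_zero (p.cm_R hx)).mp ?_)
      rw [← hf hx, hz0 _ (p.toPt.α_mem x)]
    obtain ⟨a, b, ha, hb, hab⟩ := p.toPt.not_comm
    have hcj : a * b * a⁻¹ * b⁻¹ = z := by
      rw [p.X.not_commute_conj ha.1 hb.1 hab, mul_inv_cancel_right]
    have hconj : ∀ {x : G}, p.A x → ∃ e, p.InE e ∧ p.qc * x * p.qc⁻¹ = e * x := fun {x} hx => by
      refine ⟨(p.cm x)⁻¹, p.toPt.E_inv (hcm hx), ?_⟩
      rw [cm]; group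
    obtain ⟨ea, hea, e1⟩ := hconj ha
    obtain ⟨eb, heb, e2'⟩ := hconj hb
    have h3 := congrArg (fun v => p.qc * v * p.qc⁻¹) hcj
    simp only [p.qc_conj_z] at h3
    rw [show p.qc * (a * b * a⁻¹ * b⁻¹) * p.qc⁻¹ =
      p.qc * a * p.qc⁻¹ * (p.qc * b * p.qc⁻¹) * (p.qc * a * p.qc⁻¹)⁻¹ * (p.qc * b * p.qc⁻¹)⁻¹ by group, e1, e2'] at h3
    have c1 := p.toPt.E_central hea (p.toPt.A_T (p.toPt.A_mul (p.toPt.E_A heb) hb))
    have c2 := p.toPt.E_central heb (p.toPt.A_T ha)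
    have h4 : ea * a * (eb * b) * (ea * a)⁻¹ * (eb * b)⁻¹ = a * b * a⁻¹ * b⁻¹ :=
      calc ea * a * (eb * b) * (ea * a)⁻¹ * (eb * b)⁻¹
          = ea * (a * eb * b * a⁻¹) * ea⁻¹ * (b⁻¹ * eb⁻¹) := by group
        _ = a * eb * b * a⁻¹ * (b⁻¹ * eb⁻¹) := by
          rw [← (p.toPt.E_central hea (p.toPt.A_T (p.toPt.A_mul (p.toPt.A_mul (p.toPt.A_mul ha (p.toPt.E_A heb)) hb)
            (p.toPt.A_inv ha)))).eq, mul_inv_cancel_right]
        _ = eb * (a * b * a⁻¹ * b⁻¹) * eb⁻¹ := by rw [c2.eq]; group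
        _ = _ := by
          rw [← (p.toPt.E_central heb (p.toPt.A_T (p.toPt.A_mul (p.toPt.A_mul (p.toPt.A_mul ha hb) (p.toPt.A_inv ha))
            (p.toPt.A_inv hb)))).eq, mul_inv_cancel_right]
    rw [h4, hcj] at h3
    exact p.toPt.s_ne.1 (mul_eq_left.mp h3.symm)
  · refine sing id (fun _ _ => rfl) (fun v hv hq => ?_) _ (p.toPt.α_mem x)
    rcases eq_or_ne v 0 with rfl | h0
    · exact f0
    obtain ⟨g, hg, g1', rfl⟩ := trans_w35 hv hq h0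
    rw [hequ g hg g1' 2 h2, two_W _ (fmem 2 h2) h]
    rfl

/-- The complement on the section. -/
def Lg (t : G) : Prop := p.T t ∧ Commute t p.q ∧ Commute t p.qc

theorem Lg_one : p.Lg 1 := ⟨p.toPt.T_one, Commute.one_left _, Commute.one_left _⟩

theorem Lg_mul {a b : G} (ha : p.Lg a) (hb : p.Lg b) : p.Lg (a * b) :=
  ⟨p.toPt.T_mul ha.1 hb.1, ha.2.1.mul_left hb.2.1, ha.2.2.mul_left hb.2.2⟩

theorem Lg_inv {a : G} (ha : p.Lg a) : p.Lg a⁻¹ := ⟨p.toPt.T_inv ha.1, ha.2.1.inv_left, ha.2.2.inv_left⟩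

theorem Lg_unique {t : G} (ht : p.Lg t) (h : p.toCtx.m t = 1) : t = 1 := by
  have hA : p.A t := ⟨(p.toCtx.m_one_iff ht.1.1).mp h, ht.1.2⟩
  have h16 := (p.π_comm _ hA.1 _ p.hq).mp ht.2.1
  have hcm : p.cm t = 1 := by rw [cm, ht.2.2.eq, mul_inv_cancel_right, mul_inv_cancel]
  have hα : p.α t = 0 := by rw [← p.β_cm hA, hcm, p.toPt.β_E (Or.inl rfl)]
  rw [p.πq] at h16
  rcases p.toPt.α_zero hA hα with e | e | e | e
  · exact e
  · exfalso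
    have := ht.2.2
    rw [e] at this
    have h2 := p.qc_conj_z
    rw [this.symm.eq, mul_inv_cancel_right] at h2
    exact p.toPt.s_ne.1 (mul_eq_left.mp h2.symm)
  · rw [e, p.πs] at h16; exact absurd h16 (by decide)
  · rw [e, p.π_mul z p.X.mem p.s p.hs, p.toCtx.pi_z, p.πs] at h16; exact absurd h16 (by decide)

theorem Lg_exists {h : O8} (hh : h ∈ S1) : ∃ t, p.Lg t ∧ p.toCtx.m t = h := by
  obtain ⟨t0, ht0, hm0⟩ := p.toPt.T_lift hh.1 hh.2.1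
  have ms : p.toCtx.m p.s = 1 := p.toPt.m_A ⟨p.hs, Commute.refl _⟩
  obtain ⟨t1, ht1, hm1, hq1⟩ : ∃ t, p.T t ∧ p.toCtx.m t = h ∧ Commute t p.q := by
    rcases p.toCtx.pi_eq (p.toCtx.norm ht0.1 p.hq) p.hq
      (by rw [p.toCtx.act ht0.1 p.hq, hm0, p.πq, hh.2.2]) with e | e
    · exact ⟨t0, ht0, hm0, mul_inv_eq_iff_eq_mul.mp e⟩
    · have hsT : p.T p.s := ⟨p.toPt.sz, Commute.refl _⟩
      refine ⟨p.s * t0, p.toPt.T_mul hsT ht0, by rw [p.toCtx.m_mul hsT.1 ht0.1, ms, one_mul, hm0],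
        mul_inv_eq_iff_eq_mul.mp ?_⟩
      have hn : ¬ Commute p.s p.q := fun hc => by
        have := (p.π_comm _ p.hs _ p.hq).mp hc
        rw [p.πs, p.πq] at this
        exact absurd this (by decide)
      rw [show p.s * t0 * p.q * (p.s * t0)⁻¹ = p.s * (t0 * p.q * t0⁻¹) * p.s⁻¹ by group, e,
        show p.s * (z * p.q) * p.s⁻¹ = p.s * z * p.s⁻¹ * (p.s * p.q * p.s⁻¹) by group, p.toPt.sz.eq,
        mul_inv_cancel_right, p.X.not_commute_conj p.hs p.hq hn, ← mul_assoc, p.X.zz, one_mul]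
  obtain ⟨r, hr⟩ : ∃ r, r = t1 * p.qc * t1⁻¹ * p.qc⁻¹ := ⟨_, rfl⟩
  have hrR : p.R r := by
    refine ⟨hr ▸ mul_mem (p.toPt.Q'_norm ht1.2 p.qc_mem) (inv_mem p.qc_mem), ?_⟩
    have h' : r * z * r⁻¹ = z :=
      calc r * z * r⁻¹ = t1 * (p.qc * (t1⁻¹ * (p.qc⁻¹ * z * p.qc) * t1) * p.qc⁻¹) * t1⁻¹ := by rw [hr]; group
        _ = t1 * (p.qc * (t1⁻¹ * (z * p.s) * t1) * p.qc⁻¹) * t1⁻¹ := by
          rw [p.qc_inv_conj_z]
        _ = t1 * (p.qc * (z * p.s) * p.qc⁻¹) * t1⁻¹ := by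
          rw [((ht1.1.mul_right ht1.2).inv_left).eq, inv_mul_cancel_right]
        _ = _ := by rw [p.qc_conj_zs, ht1.1.eq, mul_inv_cancel_right]
    exact mul_inv_eq_iff_eq_mul.mp h'
  have hw := p.toPt.β_mem r
  obtain ⟨hwl, hwp, hwn⟩ := W_lt _ hw
  obtain ⟨x, hx, hxπ⟩ := p.π_surj _ hwl
  have hxA : p.A x := p.toPt.A_of_perp hx (by rw [hxπ]; exact hwp)
  have hxq : Commute x p.q := (p.π_comm _ hx _ p.hq).mpr (by rw [hxπ, p.πq, pB_comm]; exact perp16_W _ hw)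
  have hxα : p.α x = p.β r := by rw [Pt.α, hxπ, hwn]
  obtain ⟨e, he⟩ : ∃ e, e = x * r * x⁻¹ * p.cm x := ⟨_, rfl⟩
  have hR : p.R (x * r * x⁻¹) := p.toPt.R_norm (p.toPt.A_T hxA) hrR
  have heE : p.InE e := by
    have hRe : p.R e := he ▸ p.toPt.R_mul hR (p.cm_R hxA)
    refine p.toPt.R_cap hRe ((p.toPt.β_zero hRe).mp ?_)
    rw [he, p.toPt.β_mul hR (p.cm_R hxA), p.toPt.β_conjA hxA hrR, p.β_cm hxA, hxα, Nat.xor_self]
  have hconj : x * t1 * p.qc * (x * t1)⁻¹ = e * p.qc := by rw [he, hr, cm]; group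
  have hT2 := p.toPt.T_mul (p.toPt.A_T hxA) ht1
  have hm2 : p.toCtx.m (x * t1) = h := by rw [p.toCtx.m_mul (p.toPt.A_T hxA).1 ht1.1, p.toPt.m_A hxA, one_mul, hm1]
  have hsq : e * (p.qc * e * p.qc⁻¹) = 1 := by
    have h2 : x * t1 * p.qc * (x * t1)⁻¹ * (x * t1 * p.qc * (x * t1)⁻¹) = 1 := by
      rw [show x * t1 * p.qc * (x * t1)⁻¹ * (x * t1 * p.qc * (x * t1)⁻¹) = x * t1 * (p.qc * p.qc) * (x * t1)⁻¹ by
        group, p.qcqc]
      group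
    rw [hconj] at h2
    rw [p.qc_inv, ← h2]; group
  rcases heE with e' | e' | e' | e'
  · refine ⟨x * t1, ⟨hT2, hxq.mul_left hq1, mul_inv_eq_iff_eq_mul.mp ?_⟩, hm2⟩
    rw [hconj, e', one_mul]
  · exfalso
    rw [e', p.qc_conj_z, ← mul_assoc, p.X.zz, one_mul] at hsq
    exact p.toPt.s_ne.1 hsq
  · have hzT : p.T z := ⟨Commute.refl z, p.toPt.sz.symm⟩
    refine ⟨z * (x * t1), ⟨p.toPt.T_mul hzT hT2, p.qz.symm.mul_left (hxq.mul_left hq1), mul_inv_eq_iff_eq_mul.mp ?_⟩, ?_⟩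
    · rw [show z * (x * t1) * p.qc * (z * (x * t1))⁻¹ = z * (x * t1 * p.qc * (x * t1)⁻¹) * z⁻¹ by group, hconj, e']
      have h2 := p.qc_conj_z
      calc z * (p.s * p.qc) * z⁻¹ = z * p.s * (p.qc * z⁻¹ * p.qc⁻¹) * p.qc := by group
        _ = _ := by rw [p.X.inv_z, h2, ← mul_assoc, show z * p.s * z = z * z * p.s by rw [mul_assoc, p.toPt.sz.eq,
          ← mul_assoc], p.X.zz, one_mul, p.toPt.ss, one_mul]
    · rw [p.toCtx.m_mul (Commute.refl z) hT2.1, p.toPt.m_A ⟨p.X.mem, p.toPt.sz.symm⟩, one_mul, hm2]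
  · exfalso
    rw [e', p.qc_conj_zs, mul_assoc, p.toPt.sz.eq, ← mul_assoc, p.X.zz, one_mul] at hsq
    exact p.toPt.s_ne.1 hsq

/-- The lift of an element of the stabiliser. -/
noncomputable def Lf (h : O8) : G :=
  @dite G (h ∈ S1) (Classical.propDecidable _) (fun hh => (p.Lg_exists hh).choose) fun _ => 1

theorem Lf_spec {h : O8} (hh : h ∈ S1) : p.Lg (p.Lf h) ∧ p.toCtx.m (p.Lf h) = h := by
  classical
  rw [Lf, dif_pos hh]; exact (p.Lg_exists hh).choose_spec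

theorem Lf_eq {t : G} {h : O8} (hh : h ∈ S1) (ht : p.Lg t) (hm : p.toCtx.m t = h) : p.Lf h = t := by
  obtain ⟨h1, h2⟩ := p.Lf_spec hh
  refine mul_inv_eq_one.mp (p.Lg_unique (p.Lg_mul h1 (p.Lg_inv ht)) ?_)
  rw [p.toCtx.m_mul h1.1.1 ht.1.1.inv_left, p.toCtx.m_inv ht.1.1, h2, hm, mul_inv_cancel]

theorem Lf_mul {g h : O8} (hg : g ∈ S1) (hh : h ∈ S1) : p.Lf (g * h) = p.Lf g * p.Lf h := by
  obtain ⟨a1, a2⟩ := p.Lf_spec hg
  obtain ⟨b1, b2⟩ := p.Lf_spec hh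
  exact p.Lf_eq (mul_mem hg hh) (p.Lg_mul a1 b1) (by rw [p.toCtx.m_mul a1.1.1 b1.1.1, a2, b2])

theorem Lf_one : p.Lf 1 = 1 := p.Lf_eq (one_mem _) p.Lg_one p.toCtx.m_one

theorem Lf_inv {g : O8} (hg : g ∈ S1) : p.Lf g⁻¹ = (p.Lf g)⁻¹ := by
  refine eq_inv_of_mul_eq_one_left ?_
  rw [← p.Lf_mul (inv_mem hg) hg, inv_mul_cancel, Lf_one]

theorem Lf_conj {g h : O8} (hg : g ∈ S1) (hh : h ∈ S1) :
    p.Lf (g * h * g⁻¹) = p.Lf g * p.Lf h * (p.Lf g)⁻¹ := by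
  rw [p.Lf_mul (mul_mem hg hh) (inv_mem hg), p.Lf_mul hg hh, p.Lf_inv hg]

/-- Whether a lift fails to commute with the lifts of a fixed code. -/
noncomputable def Fb (h : O8) (w : ℕ) : Bool :=
  @decide (∃ x ∈ p.Q, p.π x = w ∧ ¬ Commute (p.Lf h) x) (Classical.propDecidable _)

theorem conj_Fb {h : O8} (hh : h ∈ S1) {w : ℕ} (hf : cd h w = w) {x : G} (hx : x ∈ p.Q) (hxπ : p.π x = w) :
    p.Lf h * x * (p.Lf h)⁻¹ = p.zp (p.Fb h w) * x := by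
  classical
  obtain ⟨hL, hm⟩ := p.Lf_spec hh
  have hn := p.toCtx.norm hL.1.1 hx
  have hπ : p.π (p.Lf h * x * (p.Lf h)⁻¹) = p.π x := by rw [p.toCtx.act hL.1.1 hx, hm, hxπ, hf]
  rcases p.toCtx.pi_eq hn hx hπ with e | e
  · have hF : p.Fb h w = false := by
      simp only [Fb, decide_eq_false_iff_not, not_exists, not_and, not_not]
      intro y hy hyπ
      rcases p.toCtx.pi_eq hy hx (hyπ.trans hxπ.symm) with e' | e' <;> rw [e']
      · exact mul_inv_eq_iff_eq_mul.mp e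
      · exact hL.1.1.mul_right (mul_inv_eq_iff_eq_mul.mp e)
    rw [hF, e]; simp [Pt.zp]
  · have hF : p.Fb h w = true := by
      simp only [Fb, decide_eq_true_eq]
      refine ⟨x, hx, hxπ, fun hc => ?_⟩
      rw [hc.eq, mul_inv_cancel_right] at e
      exact p.X.ne (mul_eq_right.mp e.symm)
    rw [hF, e]; rfl

theorem Fb_of_conj {h : O8} (hh : h ∈ S1) {w : ℕ} (hf : cd h w = w) {x : G} (hx : x ∈ p.Q) (hxπ : p.π x = w)
    {b : Bool} (e : p.Lf h * x * (p.Lf h)⁻¹ = p.zp b * x) : p.Fb h w = b :=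
  p.toPt.zp_inj (mul_right_cancel ((p.conj_Fb hh hf hx hxπ).symm.trans e))

theorem Fb_mul {g h : O8} (hg : g ∈ S1) (hh : h ∈ S1) {w : ℕ} (hw : w < 256) (fg : cd g w = w) (fh : cd h w = w) :
    p.Fb (g * h) w = (p.Fb g w ^^ p.Fb h w) := by
  obtain ⟨x, hx, hxπ⟩ := p.π_surj w hw
  refine p.Fb_of_conj (mul_mem hg hh) (by rw [cd_mul, fh, fg]) hx hxπ ?_
  obtain ⟨hL, -⟩ := p.Lf_spec hg
  rw [p.Lf_mul hg hh, show p.Lf g * p.Lf h * x * (p.Lf g * p.Lf h)⁻¹ =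
    p.Lf g * (p.Lf h * x * (p.Lf h)⁻¹) * (p.Lf g)⁻¹ by group, p.conj_Fb hh fh hx hxπ,
    show p.Lf g * (p.zp (p.Fb h w) * x) * (p.Lf g)⁻¹ =
      p.Lf g * p.zp (p.Fb h w) * (p.Lf g)⁻¹ * (p.Lf g * x * (p.Lf g)⁻¹) by group,
    (p.toPt.zp_comm hL.1.1 _).eq, mul_inv_cancel_right, p.conj_Fb hg fg hx hxπ, ← mul_assoc, p.toPt.zp_mul,
    Bool.xor_comm]

theorem Fb_add {g : O8} (hg : g ∈ S1) {v w : ℕ} (hv : v < 256) (hw : w < 256) (fv : cd g v = v) (fw : cd g w = w) :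
    p.Fb g (v ^^^ w) = (p.Fb g v ^^ p.Fb g w) := by
  obtain ⟨x, hx, hxπ⟩ := p.π_surj v hv
  obtain ⟨y, hy, hyπ⟩ := p.π_surj w hw
  refine p.Fb_of_conj hg (by rw [cd_xor, fv, fw]) (mul_mem hx hy) (by rw [p.π_mul x hx y hy, hxπ, hyπ]) ?_
  rw [show p.Lf g * (x * y) * (p.Lf g)⁻¹ = p.Lf g * x * (p.Lf g)⁻¹ * (p.Lf g * y * (p.Lf g)⁻¹) by group,
    p.conj_Fb hg fv hx hxπ, p.conj_Fb hg fw hy hyπ,
    show p.zp (p.Fb g v) * x * (p.zp (p.Fb g w) * y) = p.zp (p.Fb g v) * (x * p.zp (p.Fb g w)) * y by group,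
    (p.toPt.zp_comm (p.X.central x hx) _).eq, ← p.toPt.zp_mul]
  group

theorem Fb_conj {k g : O8} (hk : k ∈ S1) (hg : g ∈ S1) {w : ℕ} (hw : w < 256) (fg : cd g w = w) :
    p.Fb (k * g * k⁻¹) (cd k w) = p.Fb g w := by
  obtain ⟨x, hx, hxπ⟩ := p.π_surj w hw
  obtain ⟨hL, hm⟩ := p.Lf_spec hk
  refine p.Fb_of_conj (mul_mem (mul_mem hk hg) (inv_mem hk)) (by rw [cd_mul, cd_mul, cd_inv k hw, fg])
    (p.toCtx.norm hL.1.1 hx) (by rw [p.toCtx.act hL.1.1 hx, hm, hxπ]) ?_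
  rw [p.Lf_conj hk hg, show p.Lf k * p.Lf g * (p.Lf k)⁻¹ * (p.Lf k * x * (p.Lf k)⁻¹) * (p.Lf k * p.Lf g * (p.Lf k)⁻¹)⁻¹
    = p.Lf k * (p.Lf g * x * (p.Lf g)⁻¹) * (p.Lf k)⁻¹ by group, p.conj_Fb hg fg hx hxπ]
  conv_rhs => rw [← mul_inv_cancel_right (p.zp (p.Fb g w)) (p.Lf k), ← (p.toPt.zp_comm hL.1.1 _).eq]
  group

/-- The value on a change of an involution. -/
theorem Fb_change {g : O8} (hg : g ∈ S1) (hgg : g * g = 1) {v : ℕ} (hv : v < 256) :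
    p.Fb g (v ^^^ cd g v) = pB v (cd g v) := by
  obtain ⟨x, hx, hxπ⟩ := p.π_surj v hv
  obtain ⟨hL, hm⟩ := p.Lf_spec hg
  set t := p.Lf g
  have htt : t * t = 1 := by rw [← p.Lf_mul hg hg, hgg, p.Lf_one]
  have ti : t⁻¹ = t := inv_eq_of_mul_eq_one_right htt
  obtain ⟨y, hy⟩ : ∃ y, y = t * x * t⁻¹ := ⟨_, rfl⟩
  have hyQ : y ∈ p.Q := hy ▸ p.toCtx.norm hL.1.1 hx
  have hyπ : p.π y = cd g v := by rw [hy, p.toCtx.act hL.1.1 hx, hm, hxπ]
  refine p.Fb_of_conj hg (by rw [cd_xor, ← cd_mul, hgg, cd_one hv, Nat.xor_comm]) (mul_mem hx hyQ)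
    (by rw [p.π_mul x hx y hyQ, hxπ, hyπ]) ?_
  have e1 : t * (x * y) * t⁻¹ = y * x :=
    calc t * (x * y) * t⁻¹ = y * ((t * t) * x * (t⁻¹ * t⁻¹)) := by rw [hy]; group
      _ = _ := by rw [ti, htt, one_mul, mul_one]
  rw [e1]
  cases hp : pB v (cd g v)
  · rw [((p.π_comm _ hx _ hyQ).mpr (by rw [hxπ, hyπ]; exact hp)).eq]; simp [Pt.zp]
  · have hn : ¬ Commute y x := fun hc => by
      have := (p.π_comm _ hx _ hyQ).mp hc.symm
      rw [hxπ, hyπ, hp] at this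
      exact Bool.noConfusion this
    have h2 := p.X.not_commute_conj hyQ hx hn
    rw [mul_inv_eq_iff_eq_mul] at h2
    rw [h2, mul_assoc]; rfl

end Qt

end Cfsg.Lib.ConwayType
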