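import Cfsg.Agent.ConwayType.MathieuLocal.Core

/-!
The matrices of the conjugations on the eleven coordinates.
-/

set_option autoImplicit false
set_option maxRecDepth 100000
set_option maxHeartbeats 1000000
set_option linter.unusedSectionVars false
set_option linter.style.haveILetI false

namespace Cfsg.Lib.ConwayType

open Subgroup Cfsg.Lib.ConwayType.Code

universe u

variable {G : Type u} [Group G] [Finite G] {z : G}

namespace Local

/-- A linear map of the coordinates. -/
def lap (M : List ℕ) (x : ℕ) : ℕ := Cfsg.Lib.Classical.OrthH1.lN 11 M x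

/-- The composition. -/
def comp (A B : List ℕ) : List ℕ := B.map (lap A)

/-- The identity. -/
def idM : List ℕ := [1, 2, 4, 8, 16, 32, 64, 128, 256, 512, 1024]

/-- A bit. -/
def bb (b : Bool) : ℕ := bif b then 1 else 0

/-- The commutators of the three root elements with the lifts. -/
def kt (f : Bool × Bool × Bool) : ℕ → ℕ → ℕ
  | 0, 64 => 16
  | 0, 128 => 8 ^^^ bb f.1
  | 1, 32 => 16 ^^^ bb f.2.1
  | 1, 128 => 4 ^^^ bb f.2.2
  | 2, 32 => 8
  | 2, 64 => 4
  | _, _ => 1

/-- The matrix of a lift. -/
def mX (f : Bool × Bool × Bool) (w : ℕ) : List ℕ :=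
  [1, 2, 4 ^^^ (bif pB w 2 then 1 else 0), 8 ^^^ (bif pB w 4 then 1 else 0), 16 ^^^ (bif pB w 8 then 1 else 0),
    32 ^^^ (bif pB w 2 then 3 else 0), 64 ^^^ (bif pB w 4 then 3 else 0), 128 ^^^ (bif pB w 8 then 3 else 0),
    256 ^^^ kt f 0 w, 512 ^^^ kt f 1 w, 1024 ^^^ kt f 2 w]

/-- The matrix of the lift of sixteen, with undetermined signs. -/
def mQ (c : Bool × Bool × Bool) : List ℕ :=
  [1, 3, 4, 8, 16, 32 ^^^ 4 ^^^ bb c.1, 64 ^^^ 8 ^^^ bb c.2.1, 128 ^^^ 16 ^^^ bb c.2.2, 256, 512, 1024]

/-- The matrix of its conjugate. -/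
def mC : List ℕ := [3, 2, 36, 72, 144, 32, 64, 128, 256, 512, 1024]

/-- The signs. -/
def f1 : Bool × Bool × Bool := (true, true, true)

/-- The matrix of a product of the three lifts. -/
def pM (p : ℕ) : List ℕ :=
  comp (comp (bif p.testBit 5 then mX f1 32 else idM) (bif p.testBit 6 then mX f1 64 else idM))
    (bif p.testBit 7 then mX f1 128 else idM)

/-- The image of a commutator under an element of the complement. -/
def xim (g : List (ℕ × ℕ)) (tim : List ℕ) (i w : ℕ) : ℕ :=
  tim.getD i 0 <<< 8 ^^^ lap (pM (act g w)) (tim.getD i 0 <<< 8)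

/-- The matrix of an element of the complement. -/
def mH (g : List (ℕ × ℕ)) (tim : List ℕ) : List ℕ :=
  [1, 2, xim g tim 2 64, xim g tim 2 32, xim g tim 0 64, xim g tim 2 64 ^^^ lap mC (xim g tim 2 64),
    xim g tim 2 32 ^^^ lap mC (xim g tim 2 32), xim g tim 0 64 ^^^ lap mC (xim g tim 0 64),
    tim.getD 0 0 <<< 8, tim.getD 1 0 <<< 8, tim.getD 2 0 <<< 8]

/-- The check for an element of the complement. -/
def hOK (g : List (ℕ × ℕ)) (tim : List ℕ) : Bool :=
  g.all okS && sameAct (g ++ g.reverse) [] &&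
    (List.range 3).all (fun i => decide (tim.getD i 0 < 8) &&
      sameAct (g ++ hw i ++ g.reverse) (tWord (tim.getD i 0))) &&
    [32, 64, 128].all (fun w => decide (act g w ∈ [0, 32, 64, 96, 128, 160, 192, 224]))

theorem lap_lt : ∀ {M : List ℕ}, M.all (fun y => decide (y < 2048)) = true → ∀ x, lap M x < 2048 := by
  intro M hM x
  rw [lap, Cfsg.Lib.Classical.OrthH1.lN]
  induction List.range 11 with
  | nil => simp
  | cons i l ih =>
    rw [List.map_cons, List.foldr_cons]
    refine Nat.xor_lt_two_pow (n := 11) ?_ ih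
    split
    · by_cases hi : i < M.length
      · rw [List.getD_eq_getElem _ _ hi]
        simpa using List.all_eq_true.mp hM _ (List.getElem_mem hi)
      · rw [List.getD_eq_default _ _ (by omega)]; norm_num
    · norm_num

end Local

namespace Fr

open Local

variable (p : Fr z)

/-- Conjugation by an element is given by a matrix. -/
def Maps (n : G) (M : List ℕ) : Prop := ∀ i < 11, n * p.gen i * n⁻¹ = p.ev (M.getD i 0)

variable {p}

theorem Maps.ev {n : G} {M : List ℕ} (h : p.Maps n M) (x : ℕ) : n * p.ev x * n⁻¹ = p.ev (lap M x) := by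
  have key : ∀ l : List ℕ, (∀ i ∈ l, i < 11) → n * evL p.gen l x * n⁻¹ =
      p.ev ((l.map fun j => if x.testBit j then M.getD j 0 else 0).foldr (· ^^^ ·) 0) := by
    intro l hl
    induction l with
    | nil => simp [evL, p.ev_zero]
    | cons i l ih =>
      simp only [List.forall_mem_cons] at hl
      rw [List.map_cons, List.foldr_cons, p.ev_xor, ← ih hl.2]
      simp only [evL, List.map_cons, List.prod_cons]
      cases hb : x.testBit i
      · simp [p.ev_zero]
      · simp only [if_true]
        rw [← h i hl.1]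
        group
  exact key _ fun i hi => List.mem_range.mp hi

theorem Maps.mul {n m : G} {A B : List ℕ} (hn : p.Maps n A) (hm : p.Maps m B) (hB : B.length = 11) :
    p.Maps (n * m) (comp A B) := fun i hi => by
  rw [show n * m * p.gen i * (n * m)⁻¹ = n * (m * p.gen i * m⁻¹) * n⁻¹ by group, hm i hi, hn.ev]
  simp [comp, List.getD_eq_getElem?_getD, hB, hi]

theorem maps_one : p.Maps 1 idM := fun i hi => by
  rw [one_mul, inv_one, mul_one, ← p.ev_bit hi]
  congr 1
  revert i; decide

theorem Maps.congr {n : G} {A B : List ℕ} (hA : p.Maps n A) (hB : p.Maps n B) (hla : A.length = 11)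
    (hlb : B.length = 11) (ha : A.all (fun y => decide (y < 2048)) = true)
    (hb : B.all (fun y => decide (y < 2048)) = true) : A = B := by
  refine List.ext_getElem (by omega) fun i h1 h2 => ?_
  have e := (hA i (by omega)).symm.trans (hB i (by omega))
  rw [List.getD_eq_getElem _ _ h1, List.getD_eq_getElem _ _ h2] at e
  exact p.ev_inj (by simpa using List.all_eq_true.mp ha _ (List.getElem_mem h1))
    (by simpa using List.all_eq_true.mp hb _ (List.getElem_mem h2)) e

theorem Maps.of_zmul {n : G} {M : List ℕ} (h : p.Maps n M) (b : Bool) : p.Maps (p.zp b * n) M := fun i hi => by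
  rw [show p.zp b * n * p.gen i * (p.zp b * n)⁻¹ = p.zp b * (n * p.gen i * n⁻¹) * (p.zp b)⁻¹ by group, h i hi,
    ← (p.toPt.zp_comm (p.ev_T _).1 b).eq, mul_inv_cancel_right]

end Fr

end Cfsg.Lib.ConwayType
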