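import Cfsg.Agent.Golay.Subgroups
import Cfsg.Agent.ConwayType.MathieuLocal.Complement

/-!
The two orbits, and the assembled local subgroup.
-/

set_option autoImplicit false
set_option maxRecDepth 100000
set_option maxHeartbeats 1000000
set_option linter.unusedSectionVars false
set_option linter.style.haveILetI false

namespace Cfsg.Lib.ConwayType

open Subgroup Cfsg.Lib.Golay Cfsg.Lib.Golay.Modules
open Cfsg.Lib.Golay.CodeRigid (cl)
open scoped Pointwise

universe u

variable {G : Type u} [Group G] [Finite G] {z : G}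

namespace Local

theorem cl_two {n : ℕ} (h : cl n = 2) : n = 12 := by
  unfold cl at h
  split_ifs at h with h1 h2 <;> simp_all

theorem pw_of_smul {σ : Equiv.Perm GolayPt} {a b : ℕ} (h : σ • pts a = pts b) : pw σ (wd a) = wd b := by
  rw [← wd_mk_support₂ (pw σ (wd a)), ← wd_mk_support₂ (wd b), support₂_pw, support₂_wd, support₂_wd, h]

theorem rep_facts : sMask.testBit 1 = true ∧ sMask.testBit 68 = false := by decide +kernel

end Local

namespace Fr

open Local

variable (p : Fr z)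

/-- Every element is moved to one of two. -/
theorem two_orbits {x : ℕ} (hx : x < 2048) (h0 : x ≠ 0) :
    ∃ n ∈ normalizer (p.Ag : Set G), n * p.ev x * n⁻¹ = p.ev 1 ∨ n * p.ev x * n⁻¹ = p.ev 68 := by
  obtain ⟨s1, s68⟩ := rep_facts
  obtain ⟨hc, hk, hcl, hS⟩ := iota_table x hx
  cases hb : sMask.testBit x
  · obtain ⟨hc', -, hcl', -⟩ := iota_table 68 (by norm_num)
    rw [if_neg h0, if_neg (by rw [hb]; simp)] at hcl
    rw [if_neg (by norm_num), if_neg (by rw [s68]; simp)] at hcl'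
    have hd : pts (iota x) ∈ dodecads := by
      rw [← mk_mem_dodMasks, mk_pts (lt_of_inCode hc)]
      exact mem_dodMasks.mpr ⟨hc, by rw [← pc_eq_card]; exact cl_two hcl⟩
    have hd' : pts (iota 68) ∈ dodecads := by
      rw [← mk_mem_dodMasks, mk_pts (lt_of_inCode hc')]
      exact mem_dodMasks.mpr ⟨hc', by rw [← pc_eq_card]; exact cl_two hcl'⟩
    obtain ⟨g, hg⟩ := M24_dodecads_transitive hd hd'
    obtain ⟨n, rfl⟩ := p.toM24_surjective g
    obtain ⟨y, hy, e, hcg⟩ := (p.toM24_rel n).2 x hx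
    rw [vw, pw_of_smul hg] at hcg
    exact ⟨n, n.2, Or.inr (by rw [e, vw_inj (y := y) (by norm_num : 68 < 2048) hy hcg])⟩
  · obtain ⟨ex, x8, xc⟩ := hS hb
    obtain ⟨e1, o8, oc⟩ := (iota_table 1 (by norm_num)).2.2.2 s1
    obtain ⟨g, hg⟩ := M24_octads_transitive (pts_mem_octads xc x8) (pts_mem_octads oc o8)
    obtain ⟨n, rfl⟩ := p.toM24_surjective g
    obtain ⟨y, hy, e, hcg⟩ := (p.toM24_rel n).2 x hx
    have h2 : Cong (vw 1) (vw y) := by
      refine cong_trans (cong_trans (cong_wd e1) ?_) hcg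
      have := cong_pw (p.toM24 n : Equiv.Perm GolayPt) (cong_symm (cong_wd ex))
      rw [pw_of_smul hg] at this
      exact this
    exact ⟨n, n.2, Or.inl (by rw [e, vw_inj (y := y) (by norm_num : 1 < 2048) hy h2])⟩

theorem not_fused {n : G} (e : n * p.ev 1 * n⁻¹ = p.ev 68) : False := by
  refine p.base_classes.2.2.2.1 ?_
  rw [p.ev_z] at e
  exact isConj_iff.mpr ⟨n, e⟩

/-- The quotient of the normalizer. -/
theorem quotient_iso : ∃ _ : (p.Ag.subgroupOf (normalizer (p.Ag : Set G))).Normal,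
    Nonempty (↥(normalizer (p.Ag : Set G)) ⧸ p.Ag.subgroupOf (normalizer (p.Ag : Set G)) ≃* ↥Cfsg.M24) :=
  ⟨Subgroup.normal_in_normalizer,
    ⟨(QuotientGroup.quotientMulEquivOfEq p.ker_toM24.symm).trans
      (QuotientGroup.quotientKerEquivOfSurjective p.toM24 p.toM24_surjective)⟩⟩

end Fr

/-- A group of Conway type has a two-local subgroup related to the code. -/
theorem golay_local (c : Ctx z) : ∃ A : Subgroup G, Cfsg.IsElementaryAbelian 2 A ∧ Nat.card A = 2 ^ 11 ∧ z ∈ A ∧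
    ∃ _ : (A.subgroupOf (Subgroup.normalizer (A : Set G))).Normal,
      Nonempty (↥(Subgroup.normalizer (A : Set G)) ⧸ A.subgroupOf (Subgroup.normalizer (A : Set G)) ≃* ↥Cfsg.M24) ∧
      (∃ K : Subgroup ↥(Subgroup.normalizer (A : Set G)),
        (A.subgroupOf (Subgroup.normalizer (A : Set G))).IsComplement' K) ∧
      ∃ a ∈ A, ∃ b ∈ A, a ≠ 1 ∧ b ≠ 1 ∧ (∀ n ∈ Subgroup.normalizer (A : Set G), n * a * n⁻¹ ≠ b) ∧
        ∀ x ∈ A, x ≠ 1 → ∃ n ∈ Subgroup.normalizer (A : Set G), n * x * n⁻¹ = a ∨ n * x * n⁻¹ = b := by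
  obtain ⟨p0⟩ := c.exists_pt
  obtain ⟨q0⟩ := p0.exists_qt
  obtain ⟨p⟩ := q0.exists_fr
  obtain ⟨hN, hiso⟩ := p.quotient_iso
  refine ⟨p.Ag, p.Ag_elem, p.card_Ag, p.z_mem, hN, hiso, p.exists_compl, p.ev 1, p.ev_mem (by norm_num), p.ev 68,
    p.ev_mem (by norm_num), fun e => ?_, fun e => ?_, fun n _ e => p.not_fused e, ?_⟩
  · exact absurd (p.ev_eq_one (by norm_num) e) (by norm_num)
  · exact absurd (p.ev_eq_one (by norm_num) e) (by norm_num)
  · rintro _ ⟨x, hx, rfl⟩ hne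
    exact p.two_orbits hx fun e => hne (by rw [e, p.ev_zero])

end Cfsg.Lib.ConwayType
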