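import Cfsg.Agent.ConwayType.MathieuLocal.Lin

/-!
The exact conjugations on the eleven involutions.
-/

set_option autoImplicit false
set_option maxRecDepth 100000
set_option maxHeartbeats 1000000
set_option linter.unusedSectionVars false
set_option linter.style.haveILetI false

namespace Cfsg.Lib.ConwayType

open Subgroup Cfsg.Lib.ConwayType.Code

universe u

variable {G : Type u} [Group G] [Finite G] {z : G}

namespace Local

/-- The word of the element of order three. -/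
def wc : List (ℕ × ℕ) := [(8, 64), (4, 128), (2, 128), (8, 32), (2, 128), (2, 64)]

theorem h_ok : hOK wa [3, 2, 4] = true ∧ hOK wb [1, 6, 4] = true ∧ hOK wc [2, 4, 1] = true := by decide +kernel

/-- The checks for the equations of the signs. -/
theorem sign_pairs :
    signOK [(2, 128), (2, 64), (8, 32)] (hw 0 ++ hw 1) 96 = true ∧
    signOK [(8, 32)] (hw 0 ++ hw 2) 160 = true ∧
    signOK [(8, 64)] (hw 1 ++ hw 2) 192 = true ∧
    signOK [(2, 128), (8, 32)] (hw 0) 32 = true ∧ signOK [(4, 128), (8, 64)] (hw 1) 64 = true ∧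
    signOK [] (hw 2) 128 = true ∧
    (act [(2, 128), (2, 64), (8, 32)].reverse 96).testBit 7 = true ∧ (act [(8, 32)].reverse 160).testBit 7 = true ∧
    (act [(8, 64)].reverse 192).testBit 7 = true ∧ (act [(2, 128), (8, 32)].reverse 32).testBit 7 = true ∧
    (act [(4, 128), (8, 64)].reverse 64).testBit 7 = true ∧ (act [].reverse 128).testBit 7 = true := by
  decide +kernel

theorem pair_fix : ∀ f : Bool × Bool × Bool,
    (f.2.1 = false → lap (comp (mX f 32) (mX f 64)) (3 <<< 8) = 3 <<< 8) ∧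
    (f.1 = false → lap (comp (mX f 32) (mX f 128)) (5 <<< 8) = 5 <<< 8) ∧
    (f.2.2 = false → lap (comp (mX f 64) (mX f 128)) (6 <<< 8) = 6 <<< 8) := by decide +kernel

theorem pair_words : sameAct (hw 0 ++ hw 1) (tWord 3) = true ∧ sameAct (hw 0 ++ hw 2) (tWord 5) = true ∧
    sameAct (hw 1 ++ hw 2) (tWord 6) = true := by decide +kernel

theorem com_codes : act (hw 0) 32 ^^^ 32 = 0 ∧ act (hw 1) 64 ^^^ 64 = 0 ∧ act (hw 2) 128 ^^^ 128 = 0 ∧
    act (hw 0) 128 ^^^ 128 = 4 ∧ act (hw 1) 32 ^^^ 32 = 8 ∧ act (hw 1) 128 ^^^ 128 = 2 := by decide +kernel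

theorem conj_q_code : ∀ u ∈ [2, 4, 8, 32, 64, 128], 16 ^^^ rho u 16 ^^^ u = 0 := by decide +kernel

theorem U'_facts : ∀ w ∈ [32, 64, 128], w ∈ W ∧ qB w = false := by decide +kernel

theorem mQ_zero : ∀ c : Bool × Bool × Bool, comp (mQ c) (mH wa [3, 2, 4]) = comp (mH wa [3, 2, 4]) (mQ c) →
    comp (mQ c) (mH wb [1, 6, 4]) = comp (mH wb [1, 6, 4]) (mQ c) →
    comp (mQ c) (mH wc [2, 4, 1]) = comp (mH wc [2, 4, 1]) (mQ c) → c = (false, false, false) := by decide +kernel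

theorem mQ_sizes : ∀ c : Bool × Bool × Bool, ∀ h ∈ [mH wa [3, 2, 4], mH wb [1, 6, 4], mH wc [2, 4, 1]],
    h.length = 11 ∧ (mQ c).length = 11 ∧ (comp (mQ c) h).length = 11 ∧ (comp h (mQ c)).length = 11 ∧
    (comp (mQ c) h).all (fun y => decide (y < 2048)) = true ∧ (comp h (mQ c)).all (fun y => decide (y < 2048)) = true := by
  decide +kernel

/-- The eleven matrices. -/
def mats : List (List ℕ) :=
  [mQ (false, false, false), mC, mX f1 32, mX f1 64, mX f1 128, comp (comp (mX f1 32) mC) (comp (mX f1 32) mC),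
    comp (comp (mX f1 64) mC) (comp (mX f1 64) mC), comp (comp (mX f1 128) mC) (comp (mX f1 128) mC),
    mH wa [3, 2, 4], mH wb [1, 6, 4], mH wc [2, 4, 1]]

end Local

namespace Fr

open Local

variable (p : Fr z)

theorem gen11 {P : ℕ → Prop} (h0 : P 0) (h1 : P 1) (h2 : P 2) (h3 : P 3) (h4 : P 4) (h5 : P 5) (h6 : P 6)
    (h7 : P 7) (h8 : P 8) (h9 : P 9) (h10 : P 10) : ∀ i < 11, P i := by
  intro i hi
  interval_cases i <;> assumption

theorem ev_z : p.ev 1 = z := p.ev_bit (i := 0) (by norm_num)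

theorem ev_s : p.ev 2 = p.s := p.ev_bit (i := 1) (by norm_num)

theorem ev_zs : p.ev 3 = z * p.s := by
  rw [show (3 : ℕ) = 1 ^^^ 2 from rfl, p.ev_xor, p.ev_z, p.ev_s]

theorem ev_xor_bit (b : Bool) (i : ℕ) (hi : i < 11) : p.ev (2 ^ i ^^^ bb b) = p.zp b * p.gen i := by
  rw [Nat.xor_comm, p.ev_xor, p.ev_bit hi]
  cases b
  · simp [bb, Pt.zp, p.ev_zero]
  · simp [bb, Pt.zp, p.ev_z]

theorem maps_qc : p.Maps p.toQt.qc mC := by
  have hc : ∀ a : G, Commute a p.toQt.qc → p.toQt.qc * a * p.toQt.qc⁻¹ = a := fun a h => by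
    rw [← h.eq, mul_inv_cancel_right]
  have hx : ∀ u ∈ [2, 4, 8], p.toQt.qc * p.xu u * p.toQt.qc⁻¹ = p.xu u * p.ru u ∧
      p.toQt.qc * p.ru u * p.toQt.qc⁻¹ = p.ru u := fun u hu => by
    obtain ⟨hl, hW, hq⟩ := p.lift_xu hu
    have e := hl.qc_conj hq
    refine ⟨by rw [p.toQt.qc_inv, e]; rfl, ?_⟩
    have c := hl.comm_rof hl hW hW hq (pB_self u)
    calc p.toQt.qc * p.ru u * p.toQt.qc⁻¹ = p.toQt.qc * p.xu u * p.toQt.qc * p.xu u := by rw [ru, rof]; group
      _ = p.xu u * p.rof (p.xu u) * p.xu u := by rw [e]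
      _ = _ := by rw [mul_assoc, ← c.eq, ← mul_assoc, hl.sq hq, one_mul]; rfl
  refine gen11 ?_ ?_ ?_ ?_ ?_ ?_ ?_ ?_ ?_ ?_ ?_
  · exact p.toQt.qc_conj_z.trans p.ev_zs.symm
  · exact (hc _ p.toQt.qc_s.symm).trans p.ev_s.symm
  · exact (hx 2 (by decide)).1.trans (by
      rw [show mC.getD 2 0 = 2 ^ 2 ^^^ 2 ^ 5 from rfl, p.ev_xor, p.ev_bit (by norm_num), p.ev_bit (by norm_num)]; rfl)
  · exact (hx 4 (by decide)).1.trans (by
      rw [show mC.getD 3 0 = 2 ^ 3 ^^^ 2 ^ 6 from rfl, p.ev_xor, p.ev_bit (by norm_num), p.ev_bit (by norm_num)]; rfl)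
  · exact (hx 8 (by decide)).1.trans (by
      rw [show mC.getD 4 0 = 2 ^ 4 ^^^ 2 ^ 7 from rfl, p.ev_xor, p.ev_bit (by norm_num), p.ev_bit (by norm_num)]; rfl)
  · exact (hx 2 (by decide)).2.trans (p.ev_bit (i := 5) (by norm_num)).symm
  · exact (hx 4 (by decide)).2.trans (p.ev_bit (i := 6) (by norm_num)).symm
  · exact (hx 8 (by decide)).2.trans (p.ev_bit (i := 7) (by norm_num)).symm
  · exact (hc _ (p.tv_spec 0).1.2.2).trans (p.ev_bit (i := 8) (by norm_num)).symm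
  · exact (hc _ (p.tv_spec 1).1.2.2).trans (p.ev_bit (i := 9) (by norm_num)).symm
  · exact (hc _ (p.tv_spec 2).1.2.2).trans (p.ev_bit (i := 10) (by norm_num)).symm

theorem com_cases {x : G} {w : ℕ} (hx : p.Lift x w) (i : ℕ) {c : ℕ} (hc : act (hw i) w ^^^ w = c) {y : G}
    (hy : p.Lift y c) : ∃ b, p.tv i * x * p.tv i * x = p.zp b * y := by
  have h := p.lift_com hx i
  rw [hc] at h
  rcases p.toCtx.pi_eq h.1 hy.1 (h.2.trans hy.2.symm) with e | e
  · exact ⟨false, by rw [e]; simp [Pt.zp]⟩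
  · exact ⟨true, by rw [e]; rfl⟩

theorem com_diag {x : G} {w : ℕ} (hx : p.Lift x w) (hq : qB w = false) (hw' : w < 256) (i : ℕ) (hi : i < 3)
    (hc : act (hw i) w ^^^ w = 0) (hF : p.Fb (el (hw i)) w = true) : p.tv i * x * p.tv i * x = z := by
  have ok := (hw_ok i hi).1
  have e := p.toQt.conj_Fb (el_mem ok) ((cd_el (okP_of_okS ok) hw').trans (xor_eq_zero'.mp hc)) hx.1 hx.2
  rw [show p.toQt.Lf (el (hw i)) = p.tv i from rfl, hF, show p.zp true = z from rfl, p.tv_inv] at e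
  rw [e, mul_assoc, hx.sq hq, mul_one]

theorem maps_lift_aux : ∃ f, p.Maps p.x32 (mX f 32) ∧ p.Maps p.x64 (mX f 64) ∧ p.Maps p.x128 (mX f 128) := by
  obtain ⟨d0, d1, d2, c0, c1, c2⟩ := com_codes
  obtain ⟨-, -, -, s0, s1, s2, -, -, -, b0, b1, b2⟩ := sign_pairs
  obtain ⟨hu2, hu4, hu8⟩ := p.lift_u
  obtain ⟨f1', e1⟩ := p.com_cases p.lift128 0 c0 hu4
  obtain ⟨f2', e2⟩ := p.com_cases p.lift32 1 c1 hu8
  obtain ⟨f3', e3⟩ := p.com_cases p.lift128 1 c2 hu2
  have D0 := p.com_diag p.lift32 (by decide) (by norm_num) 0 (by norm_num) d0 ((p.sign s0).trans b0)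
  have D1 := p.com_diag p.lift64 (by decide) (by norm_num) 1 (by norm_num) d1 ((p.sign s1).trans b1)
  have D2 := p.com_diag p.lift128 (by decide) (by norm_num) 2 (by norm_num) d2 ((p.sign s2).trans b2)
  have hx : ∀ {x : G} {w : ℕ}, p.Lift x w → qB w = false → ∀ (i c : ℕ), p.tv i * x * p.tv i * x = p.ev c →
      x * p.tv i * x⁻¹ = p.ev (2 ^ (8 + min i 2) ^^^ c) := fun {x w} hx hq i c e => by
    have hg : p.gen (8 + min i 2) = p.tv i := by
      obtain h | h | h : min i 2 = 0 ∨ min i 2 = 1 ∨ min i 2 = 2 := by omega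
      all_goals rw [h]; show p.tv _ = _; rw [tv, tv, hw_le i, h]
    rw [p.ev_xor, p.ev_bit (by omega), hg, ← e, inv_eq_of_mul_eq_one_right (hx.sq hq)]
    calc x * p.tv i * x = p.tv i * p.tv i * (x * p.tv i * x) := by rw [p.tv_sq, one_mul]
      _ = _ := by group
  refine ⟨(f1', f2', f3'), ?_⟩
  have base : ∀ {x : G} {w : ℕ}, p.Lift x w → w ∈ [32, 64, 128] → x * z * x⁻¹ = p.ev 1 ∧ x * p.s * x⁻¹ = p.ev 2 ∧
      ∀ u ∈ [2, 4, 8], x * p.xu u * x⁻¹ = p.zp (pB w u) * p.xu u ∧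
        x * p.ru u * x⁻¹ = (bif pB w u then z * p.s else 1) * p.ru u := by
    intro x w hx hw
    have hW : w ∈ W := (U'_facts w hw).1
    refine ⟨by rw [hx.commute_z.eq, mul_inv_cancel_right, p.ev_z],
      by rw [(hx.memA hW).2.eq, mul_inv_cancel_right, p.ev_s], fun u hu => ?_⟩
    obtain ⟨hl, hWu, hqu⟩ := p.lift_xu hu
    obtain ⟨hR, hβ, -⟩ := hl.rof_R hWu hqu
    have hc1 := p.toPt.cab_ze (hx.memA hW) hR
    have hc2 := p.toPt.cab_se (hx.memA hW) hR
    have hE := p.toPt.cab_E (hx.memA hW) hR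
    rw [hx.α hW, hβ] at hc1 hc2
    obtain ⟨⟨z1, t1⟩, -, -, ⟨z4, t4⟩⟩ := p.toPt.zse
    cases hp : pB w u
    · refine ⟨?_, ?_⟩
      · rw [(hx.comm hl hp).eq, mul_inv_cancel_right]; simp [Pt.zp]
      · rw [cond_false, one_mul, ru, (hx.comm_rof hl hW hWu hqu hp).eq, mul_inv_cancel_right]
    · rw [hp] at hc1 hc2
      refine ⟨p.X.not_commute_conj hx.1 hl.1 fun h => ?_, ?_⟩
      · have := (p.π_comm _ hx.1 _ hl.1).mp h
        rw [hx.2, hl.2, hp] at this
        exact Bool.noConfusion this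
      · have := p.toPt.eq_of_zse hE (Or.inr (Or.inr (Or.inr rfl))) (hc1.trans z4.symm) (hc2.trans t4.symm)
        rw [cond_true, ← this, Pt.cab, ru, inv_mul_cancel_right]
  have ex : ∀ (b : Bool) (i : ℕ), i < 11 → p.zp b * p.gen i = p.ev (2 ^ i ^^^ bif b then 1 else 0) := fun b i hi => by
    rw [← p.ev_xor_bit b i hi]; rfl
  have er : ∀ (b : Bool) (i : ℕ), i < 11 →
      (bif b then z * p.s else 1) * p.gen i = p.ev (2 ^ i ^^^ bif b then 3 else 0) := fun b i hi => by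
    rw [Nat.xor_comm, p.ev_xor, p.ev_bit hi]
    cases b
    · simp [p.ev_zero]
    · simp [p.ev_zs]
  have mk : ∀ {x : G} {w : ℕ}, p.Lift x w → w ∈ [32, 64, 128] →
      (∀ i < 3, p.tv i * x * p.tv i * x = p.ev (kt (f1', f2', f3') i w)) → p.Maps x (mX (f1', f2', f3') w) := by
    intro x w hl hw hk
    obtain ⟨a, b, c⟩ := base hl hw
    have hq : qB w = false := (U'_facts w hw).2
    refine gen11 a b ?_ ?_ ?_ ?_ ?_ ?_ ?_ ?_ ?_
    · exact (c 2 (by decide)).1.trans (ex _ 2 (by norm_num))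
    · exact (c 4 (by decide)).1.trans (ex _ 3 (by norm_num))
    · exact (c 8 (by decide)).1.trans (ex _ 4 (by norm_num))
    · exact (c 2 (by decide)).2.trans (er _ 5 (by norm_num))
    · exact (c 4 (by decide)).2.trans (er _ 6 (by norm_num))
    · exact (c 8 (by decide)).2.trans (er _ 7 (by norm_num))
    · exact hx hl hq 0 _ (hk 0 (by norm_num))
    · exact hx hl hq 1 _ (hk 1 (by norm_num))
    · exact hx hl hq 2 _ (hk 2 (by norm_num))
  refine ⟨mk p.lift32 (by decide) ?_, mk p.lift64 (by decide) ?_, mk p.lift128 (by decide) ?_⟩ <;>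
    intro i hi <;> interval_cases i
  · exact D0.trans p.ev_z.symm
  · exact e2.trans (p.ev_xor_bit f2' 4 (by norm_num)).symm
  · exact (p.ev_bit (i := 3) (by norm_num)).symm
  · exact (p.ev_bit (i := 4) (by norm_num)).symm
  · exact D1.trans p.ev_z.symm
  · exact (p.ev_bit (i := 2) (by norm_num)).symm
  · exact e1.trans (p.ev_xor_bit f1' 3 (by norm_num)).symm
  · exact e3.trans (p.ev_xor_bit f3' 2 (by norm_num)).symm
  · exact D2.trans p.ev_z.symm

theorem maps_lifts : p.Maps p.x32 (mX f1 32) ∧ p.Maps p.x64 (mX f1 64) ∧ p.Maps p.x128 (mX f1 128) := by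
  obtain ⟨f, h32, h64, h128⟩ := p.maps_lift_aux
  obtain ⟨s0, s1, s2, -, -, -, b0, b1, b2, -, -, -⟩ := sign_pairs
  obtain ⟨w0', w1, w2⟩ := pair_words
  obtain ⟨g0, g1, g2⟩ := pair_fix f
  have key : ∀ {x y : G} {v w b : ℕ} {A B : List ℕ} {g k : List (ℕ × ℕ)}, p.Lift x v → p.Lift y w → p.Maps x A →
      p.Maps y B → B.length = 11 → b < 8 → signOK k g (v ^^^ w) = true →
      (act k.reverse (v ^^^ w)).testBit 7 = true → sameAct g (tWord b) = true →
      lap (comp A B) (b <<< 8) ≠ b <<< 8 := by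
    intro x y v w b A B g k hx hy hA hB hlen hb hs hbit hsame e
    have h1 := (hA.mul hB hlen).ev (b <<< 8)
    rw [e, mul_inv_eq_iff_eq_mul] at h1
    have hxy := hx.mul hy
    simp only [signOK, Bool.and_eq_true, decide_eq_true_eq, beq_iff_eq] at hs
    have og : g.all okS = true := hs.1.1.1.1.1.1.2
    have hwl : v ^^^ w < 256 := hs.1.1.1.1.1.2
    have hfg : act g (v ^^^ w) = v ^^^ w := hs.1.1.2
    have hF : p.Fb (el g) (v ^^^ w) = true := by
      refine (p.sign (k := k) ?_).trans hbit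
      simp only [signOK, Bool.and_eq_true, decide_eq_true_eq, beq_iff_eq]; exact hs
    have h2 := p.toQt.conj_Fb (el_mem og) ((cd_el (okP_of_okS og) hwl).trans hfg) hxy.1 hxy.2
    rw [hF, el_eq hsame, ← p.ev_L b hb, ← h1, mul_inv_cancel_right, show p.zp true = z from rfl] at h2
    exact p.X.ne (mul_eq_right.mp h2.symm)
  have hlen : ∀ f w, (mX f w).length = 11 := fun _ _ => rfl
  have t2 : f.2.1 = true := by
    by_contra h
    exact key p.lift32 p.lift64 h32 h64 (hlen _ _) (by norm_num) s0 b0 w0' (g0 (by simpa using h))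
  have t1 : f.1 = true := by
    by_contra h
    exact key p.lift32 p.lift128 h32 h128 (hlen _ _) (by norm_num) s1 b1 w1 (g1 (by simpa using h))
  have t3 : f.2.2 = true := by
    by_contra h
    exact key p.lift64 p.lift128 h64 h128 (hlen _ _) (by norm_num) s2 b2 w2 (g2 (by simpa using h))
  obtain rfl : f = f1 := Prod.ext t1 (Prod.ext t2 t3)
  exact ⟨h32, h64, h128⟩

theorem maps_h {g : List (ℕ × ℕ)} {tim : List ℕ} (h : hOK g tim = true) : p.Maps (p.toQt.Lf (el g)) (mH g tim) := by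
  simp only [hOK, Bool.and_eq_true, List.all_eq_true, List.mem_range, decide_eq_true_eq] at h
  obtain ⟨⟨⟨og', hrev⟩, ht⟩, hw'⟩ := h
  have og : g.all okS = true := List.all_eq_true.mpr og'
  obtain ⟨hL, -⟩ := p.toQt.Lf_spec (el_mem og)
  set n := p.toQt.Lf (el g) with hn
  have him : ∀ i < 3, n * p.tv i * n⁻¹ = p.ev (tim.getD i 0 <<< 8) := fun i hi => by
    obtain ⟨h8, hs⟩ := ht i hi
    rw [p.ev_L _ h8, hn, tv, ← p.toQt.Lf_conj (el_mem og) (el_mem (hw_ok i hi).1), el_conj hrev hs]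
  obtain ⟨M32, M64, M128⟩ := p.maps_lifts
  have hxim : ∀ {x : G} {w : ℕ}, p.Lift x w → w ∈ [32, 64, 128] → ∀ i < 3,
      n * (p.tv i * x * p.tv i * x) * n⁻¹ = p.ev (xim g tim i w) := by
    intro x w hx hw i hi
    have hq : qB w = false := (U'_facts w hw).2
    have hX := el_lift og hx
    rw [← hn] at hX
    obtain ⟨P, hP, hPM⟩ : ∃ P, p.Lift P (act g w) ∧ p.Maps P (pM (act g w)) := by
      have hone : p.Lift 1 0 := ⟨one_mem _, p.toCtx.pi_one⟩
      have pick : ∀ (b : Bool) {x : G} {w : ℕ}, p.Lift x w → p.Maps x (mX f1 w) →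
          p.Lift (bif b then x else 1) (bif b then w else 0) ∧
            p.Maps (bif b then x else 1) (bif b then mX f1 w else idM) := fun b {x w} h1 h2 => by
        cases b
        exacts [⟨hone, maps_one⟩, ⟨h1, h2⟩]
      obtain ⟨a1, a2⟩ := pick ((act g w).testBit 5) p.lift32 M32
      obtain ⟨b1, b2⟩ := pick ((act g w).testBit 6) p.lift64 M64
      obtain ⟨c1, c2⟩ := pick ((act g w).testBit 7) p.lift128 M128
      refine ⟨_, ?_, (a2.mul b2 (by cases (act g w).testBit 6 <;> rfl)).mul c2 (by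
        cases (act g w).testBit 7 <;> rfl)⟩
      have hc := (a1.mul b1).mul c1
      have hbits : ∀ v ∈ [0, 32, 64, 96, 128, 160, 192, 224], (bif v.testBit 5 then 32 else 0) ^^^
          (bif v.testBit 6 then 64 else 0) ^^^ (bif v.testBit 7 then 128 else 0) = v := by decide
      rwa [hbits _ (hw' w hw)] at hc
    obtain ⟨b, hb⟩ : ∃ b, n * x * n⁻¹ = p.zp b * P := by
      rcases p.toCtx.pi_eq hX.1 hP.1 (hX.2.trans hP.2.symm) with e | e
      · exact ⟨false, by rw [e]; simp [Pt.zp]⟩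
      · exact ⟨true, by rw [e]; rfl⟩
    have hM := (hPM.of_zmul b).ev (tim.getD i 0 <<< 8)
    rw [← hb, ← him i hi] at hM
    have hxx : n * x * n⁻¹ * (n * x * n⁻¹) = 1 := by
      rw [show n * x * n⁻¹ * (n * x * n⁻¹) = n * (x * x) * n⁻¹ by group, hx.sq hq]; group
    rw [inv_eq_of_mul_eq_one_right hxx] at hM
    rw [xim, p.ev_xor, ← him i hi, ← hM]
    group
  have hr : ∀ u ∈ [2, 4, 8], ∀ v, n * p.xu u * n⁻¹ = p.ev v → n * p.ru u * n⁻¹ = p.ev (v ^^^ lap mC v) := by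
    intro u _ v e
    have h2 := p.maps_qc.ev v
    rw [← e, p.toQt.qc_inv] at h2
    rw [p.ev_xor, ← e, ← h2, ru, rof]
    have hc : n⁻¹ * p.toQt.qc * n = p.toQt.qc := by rw [mul_assoc, ← hL.2.2.eq, inv_mul_cancel_left]
    conv_lhs => rw [← hc]
    group
  have e2 := hxim p.lift64 (by decide) 2 (by norm_num)
  have e4 := hxim p.lift32 (by decide) 2 (by norm_num)
  have e8 := hxim p.lift64 (by decide) 0 (by norm_num)
  refine gen11 ?_ ?_ e2 e4 e8 (hr 2 (by decide) _ e2) (hr 4 (by decide) _ e4) (hr 8 (by decide) _ e8)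
    (him 0 (by norm_num)) (him 1 (by norm_num)) (him 2 (by norm_num))
  · show n * z * n⁻¹ = p.ev 1
    rw [hL.1.1.eq, mul_inv_cancel_right, p.ev_z]
  · show n * p.s * n⁻¹ = p.ev 2
    rw [hL.1.2.eq, mul_inv_cancel_right, p.ev_s]

theorem maps_q : p.Maps p.q (mQ (false, false, false)) := by
  have hu : ∀ u ∈ [2, 4, 8], ∃ b, p.q * p.ru u * p.q⁻¹ = p.zp b * (p.xu u * p.ru u) := by
    intro u hu
    obtain ⟨hl, hW, hq⟩ := p.lift_xu hu
    obtain ⟨hR, hβ, hrr⟩ : p.R (p.ru u) ∧ p.β (p.ru u) = u ∧ p.ru u * p.ru u = 1 := hl.rof_R hW hq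
    have hri : (p.ru u)⁻¹ = p.ru u := inv_eq_of_mul_eq_one_right hrr
    obtain ⟨y, hy⟩ : ∃ y, y = p.q * (p.ru u * p.q * (p.ru u)⁻¹) := ⟨_, rfl⟩
    have hyQ : y ∈ p.Q := hy ▸ mul_mem p.hq (p.toCtx.norm hR.2 p.hq)
    have hyπ : p.π y = u := by
      rw [hy, p.π_mul _ p.hq _ (p.toCtx.norm hR.2 p.hq), p.toCtx.act hR.2 p.hq, p.πq, p.toPt.m_rho hR 16 (by norm_num),
        hβ]
      exact xor_eq_zero'.mp (conj_q_code u (by
        simp only [List.mem_cons, List.not_mem_nil, or_false] at hu ⊢; tauto))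
    have key : p.q * p.ru u * p.q⁻¹ = y * p.ru u := by
      rw [hy, p.toQt.qinv, hri]
      calc p.q * p.ru u * p.q = p.q * p.ru u * p.q * (p.ru u * p.ru u) := by rw [hrr, mul_one]
        _ = _ := by group
    rcases p.toCtx.pi_eq hyQ hl.1 (hyπ.trans hl.2.symm) with e | e
    · exact ⟨false, by rw [key, e]; simp [Pt.zp]⟩
    · exact ⟨true, by rw [key, e, mul_assoc]; rfl⟩
  obtain ⟨c1, e1⟩ := hu 2 (by decide)
  obtain ⟨c2, e2⟩ := hu 4 (by decide)
  obtain ⟨c3, e3⟩ := hu 8 (by decide)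
  have hev : ∀ (i j : ℕ) (b : Bool), i < 11 → j < 11 →
      p.zp b * (p.gen j * p.gen i) = p.ev (2 ^ i ^^^ 2 ^ j ^^^ bb b) := fun i j b hi hj => by
    rw [Nat.xor_comm (2 ^ i ^^^ 2 ^ j), p.ev_xor, p.ev_xor, p.ev_bit hi, p.ev_bit hj, (p.gen_comm j i).eq]
    congr 1
    cases b
    · simp [bb, Pt.zp, p.ev_zero]
    · simp [bb, Pt.zp, p.ev_z]
  have hc : ∀ a : G, Commute a p.q → p.q * a * p.q⁻¹ = a := fun a h => by
    rw [← h.eq, mul_inv_cancel_right]
  have hM : p.Maps p.q (mQ (c1, c2, c3)) := by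
    have hl : ∀ u ∈ [2, 4, 8], Commute (p.xu u) p.q := fun u hu => (p.lift_xu hu).1.comm_q (p.lift_xu hu).2.1
    refine gen11 ((hc _ p.toQt.qz.symm).trans p.ev_z.symm) (p.toQt.q_conj_s.trans p.ev_zs.symm)
      ((hc _ (hl 2 (by decide))).trans (p.ev_bit (i := 2) (by norm_num)).symm)
      ((hc _ (hl 4 (by decide))).trans (p.ev_bit (i := 3) (by norm_num)).symm)
      ((hc _ (hl 8 (by decide))).trans (p.ev_bit (i := 4) (by norm_num)).symm)
      (e1.trans (hev 5 2 c1 (by norm_num) (by norm_num))) (e2.trans (hev 6 3 c2 (by norm_num) (by norm_num)))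
      (e3.trans (hev 7 4 c3 (by norm_num) (by norm_num)))
      ((hc _ (p.tv_spec 0).1.2.1).trans (p.ev_bit (i := 8) (by norm_num)).symm)
      ((hc _ (p.tv_spec 1).1.2.1).trans (p.ev_bit (i := 9) (by norm_num)).symm)
      ((hc _ (p.tv_spec 2).1.2.1).trans (p.ev_bit (i := 10) (by norm_num)).symm)
  obtain ⟨oa, ob, oc⟩ := h_ok
  have inv : ∀ {g : List (ℕ × ℕ)} {tim : List ℕ}, hOK g tim = true → mH g tim ∈ [mH wa [3, 2, 4], mH wb [1, 6, 4], mH wc [2, 4, 1]] →
      comp (mQ (c1, c2, c3)) (mH g tim) = comp (mH g tim) (mQ (c1, c2, c3)) := by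
    intro g tim ho hm
    obtain ⟨l1, l2, l3, l4, a1, a2⟩ := mQ_sizes (c1, c2, c3) _ hm
    have og : g.all okS = true := by
      simp only [hOK, Bool.and_eq_true] at ho
      exact ho.1.1.1
    have h1 := hM.mul (p.maps_h ho) l1
    rw [← (p.toQt.Lf_spec (el_mem og)).1.2.1.eq] at h1
    exact h1.congr ((p.maps_h ho).mul hM l2) l3 l4 a1 a2
  rw [← mQ_zero (c1, c2, c3) (inv oa (by simp)) (inv ob (by simp)) (inv oc (by simp))]
  exact hM

/-- The element of order three. -/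
noncomputable def lc : G := p.toQt.Lf (el wc)

/-- The eleven elements realising the matrices. -/
noncomputable def nE : List G :=
  [p.q, p.toQt.qc, p.x32, p.x64, p.x128, p.rof p.x32, p.rof p.x64, p.rof p.x128, p.la, p.lb, p.lc]

theorem maps_all : ∀ i < 11, p.Maps (p.nE.getD i 1) (mats.getD i []) := by
  obtain ⟨M32, M64, M128⟩ := p.maps_lifts
  obtain ⟨oa, ob, oc⟩ := h_ok
  have hr : ∀ {x : G} {w : ℕ}, p.Maps x (mX f1 w) →
      p.Maps (p.rof x) (comp (comp (mX f1 w) mC) (comp (mX f1 w) mC)) := fun {x w} h => by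
    have h1 := h.mul p.maps_qc rfl
    have h2 := h1.mul h1 (by simp [comp, mC])
    rwa [show x * p.toQt.qc * (x * p.toQt.qc) = p.rof x by rw [rof]; group] at h2
  exact gen11 p.maps_q p.maps_qc M32 M64 M128 (hr M32) (hr M64) (hr M128) (p.maps_h oa) (p.maps_h ob) (p.maps_h oc)

end Fr

end Cfsg.Lib.ConwayType
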