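import Cfsg.Agent.Golay.CodeRigid
import Cfsg.Agent.ConwayType.MathieuLocal.Classify

/-!
The coordinates as words of the code modulo the all-ones word.
-/

set_option autoImplicit false
set_option maxRecDepth 100000
set_option maxHeartbeats 1000000
set_option linter.unusedSectionVars false
set_option linter.style.haveILetI false

namespace Cfsg.Lib.ConwayType

open Subgroup Cfsg.Lib.Golay Cfsg.Lib.Golay.Modules
open Cfsg.Lib.PermCert (PP valid)
open Cfsg.Lib.Golay.CodeRigid (cl Good Induced)
open scoped Pointwise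

universe u

variable {G : Type u} [Group G] [Finite G] {z : G}

namespace Local

/-- The mask of coordinates. -/
def iota (x : ℕ) : ℕ := lap iotaImg x

/-- The images of the systematic basis. -/
def coordImg : List ℕ := [1, 252, 109, 1357, 72, 1113, 1577, 219, 593, 340, 1980, 903]

/-- The coordinates of a mask of the code. -/
def coordOf (m : ℕ) : ℕ := Cfsg.Lib.Classical.OrthH1.lN 12 coordImg m

/-- The representative of weight at most twelve. -/
def octOf (m : ℕ) : ℕ := if pc m == 8 then m else m ^^^ 16777215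

theorem iota_table : ∀ x < 2048, inCode (iota x) = true ∧ coordOf (iota x) = x ∧
    cl (pc (iota x)) = (if x = 0 then 0 else if sMask.testBit x then 1 else 2) ∧
    (sMask.testBit x = true → (iota x = octOf (iota x) ∨ iota x = octOf (iota x) ^^^ 16777215) ∧
      pc (octOf (iota x)) = 8 ∧ inCode (octOf (iota x)) = true) := by decide +kernel

theorem coord_table : ∀ i < 4096, coordOf (enc i) < 2048 ∧
    (enc i = iota (coordOf (enc i)) ∨ enc i = iota (coordOf (enc i)) ^^^ 16777215) := by decide +kernel

/-- The points are intersections of octads. -/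
theorem point_octads : ∀ i < 24,
    (octMasks.filter fun m => m.testBit i).foldl (· &&& ·) 16777215 = 2 ^ i := by decide +kernel

theorem lN_xor (n : ℕ) (M : List ℕ) (x y : ℕ) : Cfsg.Lib.Classical.OrthH1.lN n M (x ^^^ y) =
    Cfsg.Lib.Classical.OrthH1.lN n M x ^^^ Cfsg.Lib.Classical.OrthH1.lN n M y := by
  simp only [Cfsg.Lib.Classical.OrthH1.lN]
  induction List.range n with
  | nil => simp
  | cons k l ih =>
    rw [List.map_cons, List.map_cons, List.map_cons, List.foldr_cons, List.foldr_cons, List.foldr_cons, ih]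
    cases hx : x.testBit k <;> cases hy : y.testBit k <;>
      simp [Nat.testBit_xor, hx, hy, Nat.xor_assoc, Nat.xor_left_comm]

theorem lap_xor (M : List ℕ) (x y : ℕ) : lap M (x ^^^ y) = lap M x ^^^ lap M y := lN_xor 11 M x y

theorem coordOf_xor (x y : ℕ) : coordOf (x ^^^ y) = coordOf x ^^^ coordOf y := lN_xor 12 coordImg x y

theorem code_coord {m : ℕ} (h : inCode m = true) :
    coordOf m < 2048 ∧ (m = iota (coordOf m) ∨ m = iota (coordOf m) ^^^ 16777215) := by
  have e : enc (m % 4096) = m := beq_iff_eq.mp h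
  rw [← e]
  exact coord_table _ (Nat.mod_lt _ (by norm_num))

theorem coord_full : coordOf 16777215 = 0 := by decide +kernel

/-- The word of coordinates. -/
def vw (x : ℕ) : GolayPt → ZMod 2 := wd (iota x)

theorem vw_mem {x : ℕ} (hx : x < 2048) : vw x ∈ golayCode :=
  (wd_mem_iff (lt_of_inCode (iota_table x hx).1)).mpr (iota_table x hx).1

/-- Equality up to the all-ones word. -/
def Cong (v w : GolayPt → ZMod 2) : Prop := v = w ∨ v = w + 1

theorem cong_trans {u v w : GolayPt → ZMod 2} (h : Cong u v) (h' : Cong v w) : Cong u w := by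
  rcases h with rfl | rfl <;> rcases h' with rfl | rfl
  · exact Or.inl rfl
  · exact Or.inr rfl
  · exact Or.inr rfl
  · exact Or.inl (by rw [add_assoc, CodeRigid.add_self', add_zero])

theorem cong_symm {u v : GolayPt → ZMod 2} (h : Cong u v) : Cong v u := by
  rcases h with rfl | rfl
  · exact Or.inl rfl
  · exact Or.inr (by rw [add_assoc, CodeRigid.add_self', add_zero])

theorem cong_pw (σ : Equiv.Perm GolayPt) {u v : GolayPt → ZMod 2} (h : Cong u v) : Cong (pw σ u) (pw σ v) := by
  rcases h with rfl | rfl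
  · exact Or.inl rfl
  · exact Or.inr (by rw [pw_add, pw_one])

theorem cong_wd {m n : ℕ} (h : m = n ∨ m = n ^^^ 16777215) : Cong (wd m) (wd n) := by
  rcases h with rfl | rfl
  · exact Or.inl rfl
  · exact Or.inr (by rw [wd_xor, wd_all_ones])

theorem mk_add (v w : GolayPt → ZMod 2) : mk (support₂ (v + w)) = mk (support₂ v) ^^^ mk (support₂ w) := by
  refine eq_of_pts_eq (mk_lt _) (Nat.xor_lt_two_pow (mk_lt _) (mk_lt _)) ?_
  rw [pts_mk, ← support₂_wd, wd_xor, wd_mk_support₂, wd_mk_support₂]

theorem mk_wd {m : ℕ} (hm : m < 2 ^ 24) : mk (support₂ (wd m)) = m := by rw [support₂_wd, mk_pts hm]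

theorem iota_xor (x y : ℕ) : iota (x ^^^ y) = iota x ^^^ iota y := lap_xor iotaImg x y

theorem iota_zero : iota 0 = 0 := by decide +kernel

theorem xor_shuffle (a b m n c d : ℕ) : (a ^^^ b) ^^^ ((m ^^^ n) ^^^ (c ^^^ d)) = (a ^^^ (m ^^^ c)) ^^^ (b ^^^ (n ^^^ d)) := by
  ac_rfl

/-- Distinct coordinates give distinct words. -/
theorem vw_inj {x y : ℕ} (hx : x < 2048) (hy : y < 2048) (h : Cong (vw x) (vw y)) : x = y := by
  obtain ⟨hxc, hxk, -⟩ := iota_table x hx
  obtain ⟨hyc, hyk, -⟩ := iota_table y hy
  rcases h with h | h <;> have e := congrArg (fun v => mk (support₂ v)) h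
  · simp only [vw, mk_wd (lt_of_inCode hxc), mk_wd (lt_of_inCode hyc)] at e
    rw [← hxk, e, hyk]
  · simp only [vw] at e
    rw [← wd_all_ones, ← wd_xor, mk_wd (lt_of_inCode hxc),
      mk_wd (Nat.xor_lt_two_pow (lt_of_inCode hyc) (by norm_num))] at e
    rw [← hxk, e, coordOf_xor, coord_full, Nat.xor_zero, hyk]

end Local

end Cfsg.Lib.ConwayType
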